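import Cfsg.Agent.SymSylow.Basic
import Cfsg.Agent.Fusion.SimpleAut
import Cfsg.Agent.PGroups.Bounds
import Mathlib

/-!
Block coordinates inside the alternating group, for the fusion system of a Sylow subgroup.
-/

set_option autoImplicit false
set_option linter.unusedSectionVars false
set_option linter.style.haveILetI false

namespace Cfsg.Lib.Fusion.AltSimple

open Equiv Cfsg Cfsg.FusionSystem Cfsg.Lib.SymSylow

variable {n m p : ℕ} [hp : Fact p.Prime]

/-- Block permutations inside `Fin n`. -/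
noncomputable def v (ι : Fin m × ZMod p ↪ Fin n) : Perm (Fin m × ZMod p) →* Perm (Fin n) :=
  Perm.viaEmbeddingHom ι

/-- The translation by `c i` inside block `i`. -/
def bs (c : Fin m → ZMod p) : Perm (Fin m × ZMod p) := baseHom (Multiplicative.ofAdd c)

theorem bs_apply (c : Fin m → ZMod p) (i : Fin m) (x : ZMod p) : bs c (i, x) = (i, x + c i) := rfl

theorem bs_add (c d : Fin m → ZMod p) : bs (c + d) = bs c * bs d := by
  rw [bs, bs, bs, ofAdd_add, map_mul]

theorem bs_neg (c : Fin m → ZMod p) : bs (-c) = (bs c)⁻¹ := by rw [bs, bs, ofAdd_neg, map_inv]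

theorem bs_zero : bs (0 : Fin m → ZMod p) = 1 := by rw [bs, ofAdd_zero, map_one]

theorem bs_comm (c d : Fin m → ZMod p) : Commute (bs c) (bs d) := by
  show bs c * bs d = bs d * bs c
  rw [← bs_add, ← bs_add, add_comm]

theorem bs_inj {c d : Fin m → ZMod p} (h : bs c = bs d) : c = d := funext fun i => by
  simpa [bs_apply] using congrArg (fun w : Perm (Fin m × ZMod p) => (w (i, 0)).2) h

theorem bs_pow (c : Fin m → ZMod p) : bs c ^ p = 1 := base_pow _

/-- The generator of block `i`. -/
def cyc (i : Fin m) : Perm (Fin m × ZMod p) := bs (Pi.single i 1)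

theorem cyc_apply_same (i : Fin m) (x : ZMod p) : cyc i (i, x) = (i, x + 1) := by
  simp [cyc, bs_apply]

theorem cyc_apply_ne {i j : Fin m} (h : j ≠ i) (x : ZMod p) : cyc i (j, x) = (j, x) := by
  simp [cyc, bs_apply, h]

/-- Multiplication inside the blocks. -/
def mulHom : (Fin m → (ZMod p)ˣ) →* Perm (Fin m × ZMod p) where
  toFun k :=
    { toFun := fun x => (x.1, (k x.1 : ZMod p) * x.2)
      invFun := fun x => (x.1, ((k x.1)⁻¹ : (ZMod p)ˣ) * x.2)
      left_inv := fun x => Prod.ext rfl (Units.inv_mul_cancel_left (k x.1) x.2)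
      right_inv := fun x => Prod.ext rfl (Units.mul_inv_cancel_left (k x.1) x.2) }
  map_one' := Equiv.ext fun x => Prod.ext rfl (one_mul x.2)
  map_mul' _ _ := Equiv.ext fun x => Prod.ext rfl (mul_assoc _ _ x.2)

theorem mulHom_apply (k : Fin m → (ZMod p)ˣ) (i : Fin m) (x : ZMod p) :
    mulHom k (i, x) = (i, (k i : ZMod p) * x) := rfl

/-- The sign of a multiplication. -/
def chi : (ZMod p)ˣ →* ℤˣ where
  toFun u := Perm.sign (MulAction.toPerm u : Perm (ZMod p))
  map_one' := by
    rw [show (MulAction.toPerm (1 : (ZMod p)ˣ) : Perm (ZMod p)) = 1 from Equiv.ext fun x => by show (1 : (ZMod p)ˣ) • x = x; exact one_smul _ x, map_one]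
  map_mul' a b := by
    rw [show (MulAction.toPerm (a * b) : Perm (ZMod p)) = MulAction.toPerm a * MulAction.toPerm b from
      Equiv.ext fun x => by show (a * b) • x = a • b • x; exact mul_smul a b x, map_mul]

theorem sign_mulHom (k : Fin m → (ZMod p)ˣ) : Perm.sign (mulHom k) = chi (∏ i, k i) := by
  rw [map_prod, show mulHom k = Equiv.prodCongrRight fun i => (MulAction.toPerm (k i) : Perm (ZMod p)) from
    Equiv.ext fun ⟨i, x⟩ => rfl, Perm.sign_prodCongrRight]
  rfl

theorem sign_eq_one_of_pow (hodd : Odd p) {α : Type*} [Fintype α] [DecidableEq α] {w : Perm α} {k : ℕ}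
    (h : w ^ p ^ k = 1) : Perm.sign w = 1 := by
  have h2 : Perm.sign w ^ p ^ k = 1 := by rw [← map_pow, h, map_one]
  rcases Int.units_eq_one_or (Perm.sign w) with hs | hs
  · exact hs
  · rw [hs, (hodd.pow).neg_one_pow] at h2
    exact absurd h2 (by decide)

theorem sign_liftHom (σ : Perm (Fin m)) :
    Perm.sign (liftHom (p := p) σ) = Perm.sign σ ^ p := by
  show Perm.sign (Equiv.prodCongrLeft fun _ : ZMod p => σ) = _
  rw [Perm.sign_prodCongrLeft, Finset.prod_const, Finset.card_univ, ZMod.card]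

theorem lift_conj_mul (σ : Perm (Fin m)) (k : Fin m → (ZMod p)ˣ) :
    liftHom σ * mulHom k * (liftHom σ)⁻¹ = mulHom (k ∘ σ.symm) := by
  rw [mul_inv_eq_iff_eq_mul]
  refine Equiv.ext fun ⟨i, x⟩ => ?_
  simp [liftHom_apply, mulHom_apply]

theorem mul_conj_bs (k : Fin m → (ZMod p)ˣ) (c : Fin m → ZMod p) :
    mulHom k * bs c * (mulHom k)⁻¹ = bs (fun i => (k i : ZMod p) * c i) := by
  rw [mul_inv_eq_iff_eq_mul]
  refine Equiv.ext fun ⟨i, x⟩ => ?_
  simp [bs_apply, mulHom_apply, mul_add]

theorem lift_conj_bs (σ : Perm (Fin m)) (c : Fin m → ZMod p) :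
    liftHom σ * bs c * (liftHom σ)⁻¹ = bs (c ∘ σ.symm) := by
  rw [mul_inv_eq_iff_eq_mul]; exact lift_mul_base σ c

/-- The monomial permutations. -/
def mono (σ : Perm (Fin m)) (b : Fin m → ZMod p) (k : Fin m → (ZMod p)ˣ) : Perm (Fin m × ZMod p) :=
  liftHom σ * bs b * mulHom k

theorem mono_apply (σ : Perm (Fin m)) (b : Fin m → ZMod p) (k : Fin m → (ZMod p)ˣ) (i : Fin m) (x : ZMod p) :
    mono σ b k (i, x) = (σ i, (k i : ZMod p) * x + b i) := rfl

theorem mono_conj_bs (σ : Perm (Fin m)) (b : Fin m → ZMod p) (k : Fin m → (ZMod p)ˣ) (c : Fin m → ZMod p) :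
    mono σ b k * bs c * (mono σ b k)⁻¹ = bs (fun i => (k (σ.symm i) : ZMod p) * c (σ.symm i)) := by
  rw [mono, show liftHom σ * bs b * mulHom k * bs c * (liftHom σ * bs b * mulHom k)⁻¹ =
    liftHom σ * (bs b * (mulHom k * bs c * (mulHom k)⁻¹) * (bs b)⁻¹) * (liftHom σ)⁻¹ by group,
    mul_conj_bs, (bs_comm b _).eq, mul_inv_cancel_right, lift_conj_bs]
  rfl

theorem exists_mono {w : Perm (Fin m × ZMod p)} (h : ∀ i : Fin m, ∃ c, w * cyc i * w⁻¹ = bs c) :
    ∃ σ b k, w = mono σ b k := by
  choose c hc using h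
  have hstep : ∀ i (x : ZMod p), w (i, x + 1) = ((w (i, x)).1, (w (i, x)).2 + c i (w (i, x)).1) := by
    intro i x
    have h1 := congrArg (fun u : Perm (Fin m × ZMod p) => u (w (i, x))) (hc i)
    simp only [Perm.mul_apply, Perm.inv_def, Equiv.symm_apply_apply, cyc_apply_same] at h1
    rw [h1]
    exact bs_apply _ _ _
  have hlin : ∀ i (j : ℕ), w (i, (j : ZMod p)) =
      ((w (i, 0)).1, (w (i, 0)).2 + (j : ZMod p) * c i (w (i, 0)).1) := by
    intro i j
    induction j with
    | zero => simp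
    | succ j ih =>
      rw [Nat.cast_succ, hstep, ih]
      exact Prod.ext rfl (by push_cast; ring)
  have hlin' : ∀ i (x : ZMod p), w (i, x) =
      ((w (i, 0)).1, x * c i (w (i, 0)).1 + (w (i, 0)).2) := fun i x => by
    obtain ⟨j, rfl⟩ := ZMod.natCast_zmod_surjective x
    rw [hlin, add_comm]
  have hne : ∀ i, c i (w (i, 0)).1 ≠ 0 := fun i h0 => by
    have := w.injective ((hlin' i 1).trans (by rw [h0, mul_zero, zero_add]) : w (i, 1) = w (i, 0))
    simp at this
  have hinj : Function.Injective fun i => (w (i, 0)).1 := fun i j hij => by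
    simp only at hij
    set x := ((w (j, 0)).2 - (w (i, 0)).2) / c i (w (i, 0)).1
    have : w (i, x) = w (j, 0) := by
      rw [hlin' i x, div_mul_cancel₀ _ (hne i)]
      exact Prod.ext hij (by simp)
    exact congrArg Prod.fst (w.injective this)
  refine ⟨Equiv.ofBijective _ (Finite.injective_iff_bijective.1 hinj), fun i => (w (i, 0)).2,
    fun i => Units.mk0 _ (hne i), Equiv.ext fun ⟨i, x⟩ => ?_⟩
  rw [mono_apply, hlin' i x]
  simp [mul_comm]

theorem exists_base {w : Perm (Fin m × ZMod p)} (h : ∀ i : Fin m, Commute w (cyc i)) : ∃ b, w = bs b := by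
  obtain ⟨σ, b, k, rfl⟩ := exists_mono fun i => ⟨_, show _ = bs (Pi.single i (1 : ZMod p)) by
    rw [(h i).eq, mul_inv_cancel_right]; rfl⟩
  refine ⟨b, Equiv.ext fun ⟨i, x⟩ => ?_⟩
  have hk : ∀ j, (k (σ.symm j) : ZMod p) * (Pi.single i (1 : ZMod p) : Fin m → ZMod p) (σ.symm j) =
      (Pi.single i (1 : ZMod p) : Fin m → ZMod p) j := by
    have := mono_conj_bs σ b k (Pi.single i (1 : ZMod p))
    rw [show bs (Pi.single i (1 : ZMod p)) = cyc i from rfl, (h i).eq, mul_inv_cancel_right] at this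
    exact fun j => (congrFun (bs_inj this) j).symm
  have h1 := hk (σ i)
  rw [Equiv.symm_apply_apply, Pi.single_eq_same, mul_one] at h1
  by_cases hσ : σ i = i
  · rw [hσ, Pi.single_eq_same] at h1
    rw [mono_apply, bs_apply, hσ, h1, one_mul, add_comm]
  · rw [Pi.single_eq_of_ne hσ] at h1
    exact absurd h1 (k i).ne_zero

variable (ι : Fin m × ZMod p ↪ Fin n)

theorem v_apply (w : Perm (Fin m × ZMod p)) (b : Fin m × ZMod p) : v ι w (ι b) = ι (w b) :=
  Perm.viaEmbedding_apply _ _ _

theorem v_apply_out (w : Perm (Fin m × ZMod p)) {y : Fin n} (hy : y ∉ Set.range ι) : v ι w y = y :=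
  Perm.viaEmbedding_apply_of_notMem _ _ _ hy

theorem v_injective : Function.Injective (v ι) := Perm.viaEmbeddingHom_injective ι

theorem v_sign (w : Perm (Fin m × ZMod p)) : Perm.sign (v ι w) = Perm.sign w := by
  show Perm.sign (w.viaEmbedding ι) = _
  rw [Perm.viaEmbedding, Perm.sign_extendDomain]

theorem v_conj (g : Perm (Fin n)) (w : Perm (Fin m × ZMod p)) :
    v (ι.trans g.toEmbedding) w = g * v ι w * g⁻¹ := by
  refine Equiv.ext fun y => ?_
  by_cases hy : g⁻¹ y ∈ Set.range ι
  · obtain ⟨b, hb⟩ := hy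
    have e : y = (ι.trans g.toEmbedding) b := by simp [hb]
    rw [e, v_apply]
    simp [v_apply]
  · rw [v_apply_out _ w (fun ⟨b, hb⟩ => hy ⟨b, by simp [← hb]⟩), Perm.mul_apply, Perm.mul_apply,
      v_apply_out _ w hy, Perm.inv_def, Equiv.apply_symm_apply]

theorem exists_v (hn : n ≤ m * p + 1) {x : Perm (Fin n)} (h : ∀ b, x (ι b) ∈ Set.range ι) :
    ∃ w, x = v ι w := by
  classical
  choose f hf using h
  have hfi : Function.Injective f := fun a b hab => by
    have := hf a; rw [hab, hf b] at this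
    exact ι.injective (x.injective this.symm)
  refine ⟨Equiv.ofBijective f (Finite.injective_iff_bijective.1 hfi), Equiv.ext fun y => ?_⟩
  by_cases hy : y ∈ Set.range ι
  · obtain ⟨b, rfl⟩ := hy
    rw [v_apply, ← hf b]; rfl
  · rw [v_apply_out _ _ hy]
    have hxy : x y ∉ Set.range ι := by
      rintro ⟨b, hb⟩
      obtain ⟨a, ha⟩ := (Finite.injective_iff_surjective.1 hfi) b
      exact hy ⟨a, x.injective (by rw [← hf a, ha, hb])⟩
    -- at most one point is outside
    by_contra hne
    have hsub : ({y, x y} : Finset (Fin n)) ∪ (Finset.univ.map ι) ⊆ Finset.univ := Finset.subset_univ _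
    have hdis : Disjoint ({y, x y} : Finset (Fin n)) (Finset.univ.map ι) := by
      rw [Finset.disjoint_left]
      intro a ha hb
      obtain ⟨b, -, rfl⟩ := Finset.mem_map.1 hb
      simp only [Finset.mem_insert, Finset.mem_singleton] at ha
      rcases ha with ha | ha
      · exact hy ⟨b, ha⟩
      · exact hxy ⟨b, ha⟩
    have := Finset.card_le_card hsub
    rw [Finset.card_union_of_disjoint hdis, Finset.card_map, Finset.card_univ, Finset.card_univ,
      Fintype.card_fin, Fintype.card_prod, Fintype.card_fin, ZMod.card,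
      Finset.card_pair (Ne.symm hne)] at this
    omega

/-- A conjugate of a translation that lies in the block group carries the moved points into the blocks. -/
theorem mem_range_of_conj {x : Perm (Fin n)} {c : Fin m → ZMod p} {w : Perm (Fin m × ZMod p)}
    (h : x * v ι (bs c) * x⁻¹ = v ι w) {i : Fin m} (hi : c i ≠ 0) (y : ZMod p) :
    x (ι (i, y)) ∈ Set.range ι := by
  by_contra hno
  have h1 := congrArg (fun u : Perm (Fin n) => u (x (ι (i, y)))) h
  simp only [Perm.mul_apply, Perm.inv_def, Equiv.symm_apply_apply, v_apply_out _ w hno, v_apply, bs_apply] at h1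
  have := ι.injective (x.injective h1)
  simp [hi] at this

theorem exists_mono_of_conj (hn : n ≤ m * p + 1) {x : Perm (Fin n)}
    (h : ∀ i : Fin m, ∃ c, x * v ι (cyc i) * x⁻¹ = v ι (bs c)) : ∃ σ b k, x = v ι (mono σ b k) := by
  obtain ⟨w, rfl⟩ := exists_v ι hn fun ⟨i, y⟩ => by
    obtain ⟨c, hc⟩ := h i
    exact mem_range_of_conj ι hc (i := i) (by simp) y
  obtain ⟨σ, b, k, rfl⟩ := exists_mono fun i => by
    obtain ⟨c, hc⟩ := h i
    exact ⟨c, v_injective ι (by simpa using hc)⟩
  exact ⟨σ, b, k, rfl⟩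

theorem exists_base_of_commute (hn : n ≤ m * p + 1) {x : Perm (Fin n)}
    (h : ∀ i : Fin m, Commute x (v ι (cyc i))) : ∃ b, x = v ι (bs b) := by
  obtain ⟨w, rfl⟩ := exists_v ι hn fun ⟨i, y⟩ =>
    mem_range_of_conj ι (c := Pi.single i 1) (w := cyc i) (by
      show x * v ι (cyc i) * x⁻¹ = _
      rw [(h i).eq, mul_inv_cancel_right]) (i := i) (by simp) y
  obtain ⟨b, rfl⟩ := exists_base (w := w) fun i => show w * cyc i = cyc i * w from
    v_injective ι (((v ι).map_mul _ _).trans ((h i).eq.trans ((v ι).map_mul _ _).symm))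
  exact ⟨b, rfl⟩

/-- The base subgroup in the alternating group. -/
noncomputable def baseSub : Subgroup (alternatingGroup (Fin n)) :=
  ((v ι).comp baseHom).range.subgroupOf (alternatingGroup (Fin n))

theorem mem_baseSub {g : alternatingGroup (Fin n)} :
    g ∈ baseSub ι ↔ ∃ c, (g : Perm (Fin n)) = v ι (bs c) :=
  ⟨fun ⟨c, hc⟩ => ⟨c.toAdd, hc.symm⟩, fun ⟨c, hc⟩ => ⟨Multiplicative.ofAdd c, hc.symm⟩⟩

theorem baseSub_pow {g : alternatingGroup (Fin n)} (hg : g ∈ baseSub ι) : g ^ p = 1 := by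
  obtain ⟨c, hc⟩ := (mem_baseSub ι).1 hg
  refine Subtype.ext ?_
  rw [SubgroupClass.coe_pow, hc, ← map_pow, bs_pow, map_one]
  rfl

theorem isPGroup_baseSub : IsPGroup p (baseSub ι) := fun g =>
  ⟨1, Subtype.ext (by rw [pow_one, SubgroupClass.coe_pow]; exact baseSub_pow ι g.2)⟩

theorem card_support_bs [DecidableEq (Fin n)] (c : Fin m → ZMod p) :
    (v ι (bs c)).support.card = (Finset.univ.filter fun i => c i ≠ 0).card * p := by
  classical
  have h1 : (bs c).support = (Finset.univ.filter fun i => c i ≠ 0) ×ˢ (Finset.univ : Finset (ZMod p)) := by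
    ext ⟨i, x⟩
    simp [Perm.mem_support, bs_apply]
  have h2 : (v ι (bs c)).support.card = (bs c).support.card := by
    show ((bs c).viaEmbedding ι).support.card = _
    rw [Perm.viaEmbedding]
    convert Perm.card_support_extend_domain _
  rw [h2, h1, Finset.card_product, Finset.card_univ, ZMod.card]

/-- The indicator of the first `k` blocks. -/
def indic (k : ℕ) : Fin m → ZMod p := fun i => if (i : ℕ) < k then 1 else 0

/-- An element of order `p` is conjugate to a product of block generators. -/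
theorem isConj_indic (hn : n ≤ m * p + 1) {x : Perm (Fin n)} (hx : x ^ p = 1) :
    ∃ k ≤ m, _root_.IsConj (v ι (bs (indic (p := p) k))) x := by
  classical
  by_cases hx1 : x = 1
  · refine ⟨0, Nat.zero_le _, ?_⟩
    rw [show indic (m := m) (p := p) 0 = 0 from funext fun i => by simp [indic], bs_zero, map_one, hx1]
  have ho : orderOf x = p := orderOf_eq_prime hx hx1
  obtain ⟨j, hj⟩ := Perm.cycleType_prime_order (σ := x) (by rw [ho]; exact hp.out)
  rw [ho] at hj
  have hs : x.support.card = (j + 1) * p := by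
    rw [← Perm.sum_cycleType, hj, Multiset.sum_replicate, smul_eq_mul]
  have hk : j + 1 ≤ m := by
    have h1 : x.support.card ≤ n := by simpa using Finset.card_le_univ x.support
    by_contra hc
    have : (m + 1) * p ≤ (j + 1) * p := Nat.mul_le_mul_right p (by omega)
    rw [Nat.succ_mul] at this
    have := hp.out.two_le
    omega
  refine ⟨j + 1, hk, ?_⟩
  set y := v ι (bs (indic (p := p) (j + 1)))
  have hys : y.support.card = (j + 1) * p := by
    rw [card_support_bs]
    congr 1
    rw [show (Finset.univ.filter fun i : Fin m => indic (p := p) (j + 1) i ≠ 0) =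
      Finset.univ.filter fun i : Fin m => (i : ℕ) < j + 1 from Finset.filter_congr fun i _ => by
        simp [indic]]
    rw [Fin.card_filter_val_lt]
    omega
  have hy : y ^ p = 1 := by rw [← map_pow, bs_pow, map_one]
  have hy1 : y ≠ 1 := fun h => by
    rw [h, Perm.support_one, Finset.card_empty] at hys
    rcases Nat.mul_eq_zero.1 hys.symm with h | h
    · omega
    · exact hp.out.ne_zero h
  have hoy : orderOf y = p := orderOf_eq_prime hy hy1
  obtain ⟨i, hi⟩ := Perm.cycleType_prime_order (σ := y) (by rw [hoy]; exact hp.out)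
  rw [hoy] at hi
  have : i = j := by
    have h2 := Perm.sum_cycleType y
    rw [hi, Multiset.sum_replicate, smul_eq_mul, hys] at h2
    have := Nat.eq_of_mul_eq_mul_right hp.out.pos h2
    omega
  rw [Perm.isConj_iff_cycleType_eq, hi, hj, this]

/-! ### Strongly closed subgroups -/

variable (S : Sylow p (alternatingGroup (Fin n)))

theorem closed_conj {G : Type*} [Group G] {S' T : Subgroup G}
    (hT : (groupFusionSystem S').StronglyClosed T) {g y : G} (hy : y ∈ T) (hg : g * y * g⁻¹ ∈ S') :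
    g * y * g⁻¹ ∈ T := by
  have hm : IsMap (groupFusionSystem S') (Subgroup.zpowers y) (fun w => g * w * g⁻¹) :=
    isMap_group_iff.mpr ⟨Subgroup.zpowers_le.mpr (hT.1 hy), fun w hw => by
      obtain ⟨k, rfl⟩ := hw
      show g * y ^ k * g⁻¹ ∈ S'
      rw [← _root_.conj_zpow]
      exact zpow_mem hg k, g, fun _ _ => rfl⟩
  exact stronglyClosed_apply hT hm (Subgroup.mem_zpowers y) hy

theorem exists_central_in_base (hbase : baseSub ι ≤ (S : Subgroup (alternatingGroup (Fin n))))
    (hcent : ∀ g : alternatingGroup (Fin n),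
      (∀ e ∈ baseSub ι, e * g = g * e) → g ∈ baseSub ι)
    {T : Subgroup (alternatingGroup (Fin n))}
    (hT : (groupFusionSystem (S : Subgroup (alternatingGroup (Fin n)))).StronglyClosed T) (hT1 : T ≠ ⊥) :
    ∃ z ∈ T, z ∈ baseSub ι ∧ z ≠ 1 := by
  haveI : (T.subgroupOf (S : Subgroup (alternatingGroup (Fin n)))).Normal :=
    (Subgroup.normal_subgroupOf_iff_le_normalizer hT.1).mpr (normalizes_of_stronglyClosed hT)
  obtain ⟨z, h1, h2, h3⟩ := Cfsg.Lib.PGroups.exists_mem_center_of_normal_ne_bot S.2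
    (N := T.subgroupOf (S : Subgroup (alternatingGroup (Fin n)))) (by
      rw [Ne, Subgroup.subgroupOf_eq_bot, disjoint_iff, inf_eq_left.mpr hT.1]
      exact hT1)
  refine ⟨z, h1, hcent _ fun e he => ?_, fun h4 => ?_⟩
  · exact congrArg Subtype.val (Subgroup.mem_center_iff.1 h2 ⟨e, hbase he⟩)
  · rw [show z = 1 from Subtype.ext h4, orderOf_one] at h3
    exact hp.out.ne_one h3.symm

theorem eq_of_base_le (hn : n ≤ m * p + 1)
    (hz : ∀ k, k ≤ m → ∃ z : Perm (Fin m × ZMod p), Perm.sign z = -1 ∧ Commute z (bs (indic (p := p) k)))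
    {T : Subgroup (alternatingGroup (Fin n))}
    (hT : (groupFusionSystem (S : Subgroup (alternatingGroup (Fin n)))).StronglyClosed T)
    (hle : baseSub ι ≤ T) : T = (S : Subgroup (alternatingGroup (Fin n))) := by
  refine le_antisymm hT.1 fun x hx => ?_
  have hgen := (sylow_gen p n (default : Sylow p (Perm (Fin n))) S).2 hx
  refine (Subgroup.closure_le _).2 ?_ hgen
  rintro y ⟨hyS, hyp⟩
  obtain ⟨k, hk, hc⟩ := isConj_indic ι hn (x := (y : Perm (Fin n))) (by
    rw [← SubgroupClass.coe_pow, hyp]; rfl)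
  obtain ⟨g, hg⟩ := _root_.isConj_iff.1 hc
  have hev : v ι (bs (indic (p := p) k)) ∈ alternatingGroup (Fin n) := by
    rw [Perm.mem_alternatingGroup, ← Perm.mem_alternatingGroup.1 y.2, ← hg, map_mul, map_mul, map_inv]
    exact (mul_inv_cancel_comm _ _).symm
  set e : alternatingGroup (Fin n) := ⟨_, hev⟩
  have he : e ∈ baseSub ι := (mem_baseSub ι).2 ⟨_, rfl⟩
  obtain ⟨g', hg'e, hg'⟩ : ∃ g', g' ∈ alternatingGroup (Fin n) ∧
      g' * v ι (bs (indic (p := p) k)) * g'⁻¹ = y := by
    rcases Int.units_eq_one_or (Perm.sign g) with hs | hs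
    · exact ⟨g, Perm.mem_alternatingGroup.2 hs, hg⟩
    · obtain ⟨z, hz1, hz2⟩ := hz k hk
      refine ⟨g * v ι z, Perm.mem_alternatingGroup.2 (by rw [map_mul, hs, v_sign, hz1]; rfl), ?_⟩
      rw [show g * v ι z * v ι (bs (indic (p := p) k)) * (g * v ι z)⁻¹ =
        g * (v ι z * v ι (bs (indic (p := p) k)) * (v ι z)⁻¹) * g⁻¹ by group,
        (hz2.map (v ι)).eq, mul_inv_cancel_right, hg]
  have hy : (⟨g', hg'e⟩ : alternatingGroup (Fin n)) * e * (⟨g', hg'e⟩ : alternatingGroup (Fin n))⁻¹ = y :=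
    Subtype.ext hg'
  have := closed_conj hT (g := ⟨g', hg'e⟩) (hle he) (by rw [hy]; exact hyS)
  rwa [hy] at this

end Cfsg.Lib.Fusion.AltSimple
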