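import Cfsg.Agent.Fusion.SimpleAut

/-!
The elements normalising a subgroup whose conjugation lies in a given subsystem.
-/

set_option autoImplicit false
set_option linter.unusedSectionVars false
set_option linter.style.haveILetI false

namespace Cfsg.Lib.Fusion

open Cfsg Cfsg.FusionSystem

variable {G : Type*} [Group G] [Finite G] {p : ℕ} [Fact p.Prime]

theorem centric_group_of_centralizer {S R : Subgroup G} (hR : R ≤ S)
    (hc : ∀ g : G, (∀ x ∈ R, x * g = g * x) → g ∈ R) : (groupFusionSystem S).IsCentric R := by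
  refine ⟨hR, fun Q hQ x hx => ?_⟩
  obtain ⟨-, -, g, rfl⟩ := isConj_group_iff.mp hQ
  have h1 : g⁻¹ * x * g ∈ R := hc _ fun r hr => by
    have h2 := Subgroup.mem_centralizer_iff.1 hx.2 _ (Subgroup.mem_map_of_mem _ hr)
    rw [MulEquiv.coe_toMonoidHom, MulAut.conj_apply] at h2
    calc r * (g⁻¹ * x * g) = g⁻¹ * (g * r * g⁻¹ * x) * g := by group
      _ = g⁻¹ * (x * (g * r * g⁻¹)) * g := by rw [h2]
      _ = g⁻¹ * x * g * r := by group
  refine ⟨_, h1, ?_⟩
  rw [MulEquiv.coe_toMonoidHom, MulAut.conj_apply]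
  group

variable (S : Sylow p G) {E : FusionSystem (S : Subgroup G)} {R : Subgroup G}

/-- The elements of `N_G(R)` conjugating by maps of `E`, as a monoid. -/
def mapMonoid (E : FusionSystem (S : Subgroup G)) (hR : R ≤ (S : Subgroup G)) : Submonoid G where
  carrier := {g | g ∈ Subgroup.normalizer (R : Set G) ∧ IsMap E R (fun y => g * y * g⁻¹)}
  one_mem' := ⟨one_mem _, (isMap_id hR).congr fun y _ => by simp⟩
  mul_mem' := fun {a b} ha hb => ⟨mul_mem ha.1 hb.1,
    (hb.2.comp ha.2 fun y hy => conj_mem_of_mem_normalizer hb.1 hy).congr fun y _ => by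
      simp only [Function.comp_apply, mul_inv_rev]
      group⟩

/-- The elements of `N_G(R)` conjugating by maps of `E`. -/
def mapGroup (E : FusionSystem (S : Subgroup G)) (hR : R ≤ (S : Subgroup G)) : Subgroup G :=
  { mapMonoid S E hR with
    inv_mem' := fun {a} ha => by
      have h : a⁻¹ ∈ mapMonoid S E hR := by
        rw [show a⁻¹ = a ^ (orderOf a - 1) from inv_eq_of_mul_eq_one_right (by
          rw [← pow_succ', Nat.sub_add_cancel (orderOf_pos a), pow_orderOf_eq_one])]
        exact pow_mem (show a ∈ mapMonoid S E hR from ha) _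
      exact h }

theorem mem_mapGroup {hR : R ≤ (S : Subgroup G)} {g : G} :
    g ∈ mapGroup S E hR ↔ g ∈ Subgroup.normalizer (R : Set G) ∧ IsMap E R (fun y => g * y * g⁻¹) :=
  Iff.rfl

theorem mem_mapGroup_of_mem {hR : R ≤ (S : Subgroup G)} {g : G} (hn : g ∈ Subgroup.normalizer (R : Set G))
    (hg : g ∈ (S : Subgroup G)) : g ∈ mapGroup S E hR :=
  (mem_mapGroup S).2 ⟨hn, isMap_conj hR hg⟩

theorem conj_mem_mapGroup (hinv : E.IsInvariantIn (groupFusionSystem (S : Subgroup G)))
    {hR : R ≤ (S : Subgroup G)} {a x : G} (ha : a ∈ Subgroup.normalizer (R : Set G))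
    (hx : x ∈ mapGroup S E hR) : a * x * a⁻¹ ∈ mapGroup S E hR :=
  (mem_mapGroup S).2 ⟨mul_mem (mul_mem ha hx.1) (inv_mem ha), isMap_conj_conj S hinv hR ha hx.1 hx.2⟩

/-- Extension from a centric subgroup to a larger normalised one. -/
theorem mem_mapGroup_of_centric (hinv : E.IsInvariantIn (groupFusionSystem (S : Subgroup G)))
    (hEs : E.IsSaturated p) {hR : R ≤ (S : Subgroup G)} {P : Subgroup G} (hP : P ≤ (S : Subgroup G))
    (hRP : R ≤ P) (hc : (groupFusionSystem (S : Subgroup G)).IsCentric R) {g : G}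
    (hg : g ∈ mapGroup S E hR) (hgP : g ∈ Subgroup.normalizer (P : Set G)) :
    g ∈ mapGroup S E hP :=
  (mem_mapGroup S).2 ⟨hgP, isMap_of_restrict_centric_le S.2 (saturated_group S) hEs hinv.1 (p := p)
    (isMap_group_iff.mpr ⟨hP, fun y hy => hP (conj_mem_of_mem_normalizer hgP hy), g, fun _ _ => rfl⟩)
    hRP hc hg.2⟩

end Cfsg.Lib.Fusion
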