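import Cfsg.Agent.Fusion.AltSimple.Base
import Cfsg.Agent.Fusion.AltSimple.MapGroup

/-!
For odd `p`: the base subgroup of a Sylow subgroup of `A_n` and its strongly closed overgroups.
-/

set_option autoImplicit false
set_option linter.unusedSectionVars false
set_option linter.style.haveILetI false
set_option linter.unusedSimpArgs false

namespace Cfsg.Lib.Fusion.AltSimple

open Equiv Cfsg Cfsg.FusionSystem Cfsg.Lib.SymSylow

variable {n m p : ℕ} [hp : Fact p.Prime]

theorem two_ne_zero_zmod (hodd : Odd p) : (2 : ZMod p) ≠ 0 := by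
  intro h
  have h2 : p ∣ 2 := (ZMod.natCast_eq_zero_iff 2 p).1 (by exact_mod_cast h)
  obtain ⟨k, hk⟩ := hodd
  have := Nat.le_of_dvd two_pos h2
  have := hp.out.two_le
  omega

/-- Two cycles of length `p` in a common `p`-group commute. -/
theorem commute_of_cycles {P : Subgroup (Perm (Fin n))} (hP : IsPGroup p P) {x y : Perm (Fin n)}
    (hx : x ∈ P) (hy : y ∈ P) (hxc : x.IsCycle) (hyc : y.IsCycle) (hxs : x.support.card = p)
    (hys : y.support.card = p) : Commute x y := by
  classical
  by_cases hd : Perm.Disjoint x y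
  · exact hd.commute
  obtain ⟨q, hq⟩ : ∃ q, x q ≠ q ∧ y q ≠ q := by
    by_contra hno
    refine hd fun q => ?_
    by_contra h
    push Not at h
    exact hno ⟨q, h⟩
  set U := x.support ∪ y.support
  let K : Subgroup (Perm (Fin n)) :=
    { carrier := {g | ∀ a, a ∉ U → g a = a}
      one_mem' := fun a _ => rfl
      mul_mem' := fun {g h} hg hh a ha => by rw [Perm.mul_apply, hh a ha, hg a ha]
      inv_mem' := fun {g} hg a ha => by rw [Perm.inv_def, Equiv.symm_apply_eq, hg a ha] }
  have hxK : x ∈ K := fun a ha => Perm.notMem_support.1 fun h => ha (Finset.mem_union_left _ h)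
  have hyK : y ∈ K := fun a ha => Perm.notMem_support.1 fun h => ha (Finset.mem_union_right _ h)
  set H : Subgroup (Perm (Fin n)) := P ⊓ K
  have hH : IsPGroup p H := hP.to_le inf_le_left
  obtain ⟨j, hj⟩ := hH.card_orbit (q : Fin n)
  have horb : MulAction.orbit H q = (U : Set (Fin n)) := by
    refine Set.Subset.antisymm ?_ ?_
    · rintro _ ⟨⟨g, hg⟩, rfl⟩
      show g q ∈ U
      by_contra hgq
      have h1 := hg.2 _ hgq
      rw [g.injective h1] at hgq
      exact hgq (Finset.mem_union_left _ (Perm.mem_support.2 hq.1))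
    · have key : ∀ w : Perm (Fin n), w ∈ H → w.IsCycle → w q ≠ q → ∀ a ∈ w.support,
          a ∈ MulAction.orbit H q := by
        intro w hw hwc hwq a ha
        obtain ⟨i, hi⟩ := hwc.exists_zpow_eq hwq (Perm.mem_support.1 ha)
        exact ⟨⟨w ^ i, zpow_mem hw i⟩, hi⟩
      intro a ha
      rcases Finset.mem_union.1 ha with h | h
      · exact key x ⟨hx, hxK⟩ hxc hq.1 a h
      · exact key y ⟨hy, hyK⟩ hyc hq.2 a h
  rw [horb, Nat.card_coe_set_eq, Set.ncard_coe_finset] at hj
  have hlow : p ≤ U.card := hxs ▸ Finset.card_le_card Finset.subset_union_left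
  have hUp : U.card = p := by
    have h1 : U.card < x.support.card + y.support.card := by
      have : U.card + (x.support ∩ y.support).card = x.support.card + y.support.card :=
        Finset.card_union_add_card_inter x.support y.support
      have h2 : 0 < (x.support ∩ y.support).card :=
        Finset.card_pos.2 ⟨q, Finset.mem_inter.2 ⟨Perm.mem_support.2 hq.1, Perm.mem_support.2 hq.2⟩⟩
      omega
    have := hp.out.two_le
    rcases j with _ | _ | j
    · rw [pow_zero] at hj; omega
    · rw [hj, zero_add, pow_one]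
    · have : p ^ 2 ≤ p ^ (j + 1 + 1) := Nat.pow_le_pow_right hp.out.pos (by omega)
      nlinarith
  -- `H` embeds in the permutations of `U`
  let f : Perm U →* Perm (Fin n) := Perm.ofSubtype
  have hKf : K ≤ f.range := fun g hg => ⟨g.subtypePerm (p := fun a => a ∈ U) (fun a => ⟨fun h => by
      by_contra h'
      exact h' (by rw [hg a h'] at h; exact h), fun h => by
      by_contra h'
      have := hg _ h'
      rw [g.injective this] at h'
      exact h' h⟩), Perm.ofSubtype_subtypePerm _ fun a ha => by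
      by_contra h'
      exact ha (hg a h')⟩
  have hcard : Nat.card H ∣ p := by
    obtain ⟨i, hi⟩ := IsPGroup.iff_card.1 hH
    have hdvd : Nat.card H ∣ p.factorial := by
      refine (Subgroup.card_dvd_of_le ((inf_le_right : H ≤ K).trans hKf)).trans ?_
      refine dvd_trans (Subgroup.card_range_dvd f) ?_
      rw [Nat.card_perm, Nat.card_eq_fintype_card, Fintype.card_coe, hUp]
    rw [hi] at hdvd ⊢
    have hi1 : i ≤ 1 := by
      by_contra hcon
      have h2 : p ^ 2 ∣ p.factorial := (pow_dvd_pow p (by omega)).trans hdvd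
      rw [← Nat.mul_factorial_pred hp.out.ne_zero, pow_two] at h2
      have h3 := (hp.out.dvd_factorial).1 (Nat.dvd_of_mul_dvd_mul_left hp.out.pos h2)
      have := hp.out.two_le
      omega
    exact (pow_dvd_pow p hi1).trans (by rw [pow_one])
  rcases (Nat.dvd_prime hp.out).1 hcard with h | h
  · rw [Subgroup.card_eq_one] at h
    have : x = 1 := by rw [← Subgroup.mem_bot, ← h]; exact ⟨hx, hxK⟩
    exact absurd this hxc.ne_one
  · haveI : IsCyclic H := isCyclic_of_prime_card h
    haveI : IsMulCommutative H := IsCyclic.isMulCommutative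
    exact congrArg Subtype.val (mul_comm' (⟨x, hx, hxK⟩ : H) ⟨y, hy, hyK⟩)

variable (ι : Fin m × ZMod p ↪ Fin n)

theorem card_support_cyc (i : Fin m) : (v ι (cyc i)).support.card = p := by
  classical
  rw [cyc, card_support_bs]
  rw [show (Finset.univ.filter fun j => (Pi.single i (1 : ZMod p) : Fin m → ZMod p) j ≠ 0) = {i} by
    ext j; simp [Pi.single_apply], Finset.card_singleton, one_mul]

theorem isCycle_of_pow {x : Perm (Fin n)} (hx : x ^ p = 1) (hs : x.support.card = p) : x.IsCycle := by
  have h1 : x ≠ 1 := fun e => by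
    rw [e, Perm.support_one, Finset.card_empty] at hs
    exact hp.out.ne_zero hs.symm
  have ho : orderOf x = p := orderOf_eq_prime hx h1
  obtain ⟨j, hj⟩ := Perm.cycleType_prime_order (σ := x) (by rw [ho]; exact hp.out)
  rw [← Perm.card_cycleType_eq_one, hj, Multiset.card_replicate]
  have := Perm.sum_cycleType x
  rw [hj, Multiset.sum_replicate, smul_eq_mul, hs, ho] at this
  have h2 : (j + 1) * p = 1 * p := by rw [this, one_mul]
  exact Nat.eq_of_mul_eq_mul_right hp.out.pos h2

variable (hodd : Odd p)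

/-- An even element of the block group, in the alternating group. -/
noncomputable def ev (w : Perm (Fin m × ZMod p)) (h : Perm.sign w = 1) : alternatingGroup (Fin n) :=
  ⟨v ι w, Perm.mem_alternatingGroup.2 ((v_sign ι w).trans h)⟩

theorem coe_ev (w : Perm (Fin m × ZMod p)) (h : Perm.sign w = 1) :
    ((ev ι w h : alternatingGroup (Fin n)) : Perm (Fin n)) = v ι w := rfl

/-- The elements of the base. -/
noncomputable def el (c : Fin m → ZMod p) : alternatingGroup (Fin n) :=
  ev ι (bs c) (sign_eq_one_of_pow hodd (k := 1) (by rw [pow_one]; exact bs_pow c))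

theorem coe_el (c : Fin m → ZMod p) : ((el ι hodd c : alternatingGroup (Fin n)) : Perm (Fin n)) = v ι (bs c) := rfl

theorem el_mem (c : Fin m → ZMod p) : el ι hodd c ∈ baseSub ι := (mem_baseSub ι).2 ⟨c, rfl⟩

theorem eq_el {g : alternatingGroup (Fin n)} (hg : g ∈ baseSub ι) : ∃ c, g = el ι hodd c := by
  obtain ⟨c, hc⟩ := (mem_baseSub ι).1 hg
  exact ⟨c, Subtype.ext hc⟩

theorem el_add (c d : Fin m → ZMod p) : el ι hodd (c + d) = el ι hodd c * el ι hodd d :=
  Subtype.ext (by rw [Subgroup.coe_mul, coe_el, coe_el, coe_el, bs_add, map_mul])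

theorem el_zero : el ι hodd (0 : Fin m → ZMod p) = 1 :=
  Subtype.ext (by rw [coe_el, bs_zero, map_one]; rfl)

theorem el_inj {c d : Fin m → ZMod p} (h : el ι hodd c = el ι hodd d) : c = d :=
  bs_inj (v_injective ι (congrArg Subtype.val h))

include hodd in
theorem centralizer_baseSub (hn : n ≤ m * p + 1) (g : alternatingGroup (Fin n))
    (h : ∀ e ∈ baseSub ι, e * g = g * e) : g ∈ baseSub ι :=
  (mem_baseSub ι).2 (exists_base_of_commute ι hn fun i =>
    (congrArg Subtype.val (h _ (el_mem ι hodd (Pi.single i 1)))).symm)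

theorem mono_normalizes {g : alternatingGroup (Fin n)} {σ : Perm (Fin m)} {b : Fin m → ZMod p}
    {k : Fin m → (ZMod p)ˣ} (h : (g : Perm (Fin n)) = v ι (mono σ b k)) :
    g ∈ Subgroup.normalizer (baseSub ι : Set (alternatingGroup (Fin n))) := by
  refine mem_normalizer_of_maps_finite fun e he => ?_
  obtain ⟨c, hc⟩ := (mem_baseSub ι).1 he
  refine (mem_baseSub ι).2 ⟨fun i => (k (σ.symm i) : ZMod p) * c (σ.symm i), ?_⟩
  rw [Subgroup.coe_mul, Subgroup.coe_mul, Subgroup.coe_inv, hc, h, ← map_inv, ← map_mul, ← map_mul,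
    mono_conj_bs]

variable (S : Sylow p (alternatingGroup (Fin n)))

include hodd in
theorem exists_mono_of_normalize_sylow (hn : n ≤ m * p + 1)
    (hbase : baseSub ι ≤ (S : Subgroup (alternatingGroup (Fin n)))) {g : alternatingGroup (Fin n)}
    (hg : g ∈ Subgroup.normalizer ((S : Subgroup (alternatingGroup (Fin n))) : Set (alternatingGroup (Fin n)))) :
    ∃ σ b k, (g : Perm (Fin n)) = v ι (mono σ b k) := by
  have hP : IsPGroup p ((S : Subgroup (alternatingGroup (Fin n))).map (alternatingGroup (Fin n)).subtype) :=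
    S.2.map _
  refine exists_mono_of_conj ι hn fun i => exists_base_of_commute ι hn fun j => ?_
  have hxS := conj_mem_of_mem_normalizer hg (hbase (el_mem ι hodd (Pi.single i 1)))
  have hpow : ∀ l : Fin m, v ι (cyc l) ^ p = 1 := fun l => by rw [← map_pow, cyc, bs_pow, map_one]
  have hcyc : ∀ l, (v ι (cyc l)).IsCycle := fun l => isCycle_of_pow (hpow l) (card_support_cyc ι l)
  refine commute_of_cycles hP ⟨_, hxS, rfl⟩ ⟨_, hbase (el_mem ι hodd (Pi.single j 1)), rfl⟩
    ((hcyc i).conj) (hcyc j) ?_ (card_support_cyc ι j)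
  show ((g : Perm (Fin n)) * v ι (cyc i) * (g : Perm (Fin n))⁻¹).support.card = p
  rw [Perm.card_support_conj, card_support_cyc]

theorem exists_third (hm : 3 ≤ m) (i j : Fin m) : ∃ l, l ≠ i ∧ l ≠ j :=
  Fin.exists_ne_and_ne_of_two_lt i j (by omega)

theorem exists_even_perm (hm : 3 ≤ m) (i j : Fin m) : ∃ σ : Perm (Fin m), Perm.sign σ = 1 ∧ σ i = j := by
  by_cases h : i = j
  · exact ⟨1, map_one _, h⟩
  obtain ⟨l, hli, hlj⟩ := exists_third hm i j
  refine ⟨Equiv.swap i j * Equiv.swap j l, ?_, ?_⟩
  · rw [map_mul, Perm.sign_swap h, Perm.sign_swap hlj.symm]; rfl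
  · rw [Perm.mul_apply, Equiv.swap_apply_of_ne_of_ne h hli.symm, Equiv.swap_apply_left]

include hodd in
theorem stronglyClosed_odd (hm : 3 ≤ m) (hn : n ≤ m * p + 1)
    (hbase : baseSub ι ≤ (S : Subgroup (alternatingGroup (Fin n))))
    {T : Subgroup (alternatingGroup (Fin n))}
    (hT : (groupFusionSystem (S : Subgroup (alternatingGroup (Fin n)))).StronglyClosed T) (hT1 : T ≠ ⊥) :
    T = (S : Subgroup (alternatingGroup (Fin n))) := by
  classical
  refine eq_of_base_le ι S hn (fun k hk => ?_) hT ?_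
  · obtain ⟨a, b, hab, hk'⟩ : ∃ a b : Fin m, a ≠ b ∧ indic (p := p) k a = indic k b := by
      rcases Nat.lt_or_ge 1 k with h | h
      · exact ⟨⟨0, by omega⟩, ⟨1, by omega⟩, fun e => by simpa using congrArg Fin.val e,
          by simp [indic, h, show 0 < k by omega]⟩
      · exact ⟨⟨1, by omega⟩, ⟨2, by omega⟩, fun e => by simpa using congrArg Fin.val e,
          by simp [indic, show ¬ 1 < k by omega, show ¬ 2 < k by omega]⟩
    refine ⟨liftHom (Equiv.swap a b), by rw [sign_liftHom, Perm.sign_swap hab, hodd.neg_one_pow], ?_⟩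
    show liftHom (Equiv.swap a b) * bs (indic k) = bs (indic k) * liftHom (Equiv.swap a b)
    rw [← mul_inv_eq_iff_eq_mul, lift_conj_bs]
    congr 1
    funext l
    rw [Function.comp_apply, Equiv.symm_swap]
    rcases eq_or_ne l a with rfl | ha
    · rw [Equiv.swap_apply_left, hk']
    rcases eq_or_ne l b with rfl | hb
    · rw [Equiv.swap_apply_right, hk']
    rw [Equiv.swap_apply_of_ne_of_ne ha hb]
  obtain ⟨z, hzT, hzB, hz1⟩ :=
    exists_central_in_base ι S hbase (centralizer_baseSub ι hodd hn) hT hT1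
  obtain ⟨c, rfl⟩ := eq_el ι hodd hzB
  let L : AddSubgroup (Fin m → ZMod p) :=
    { carrier := {c | el ι hodd c ∈ T}
      zero_mem' := by show el ι hodd 0 ∈ T; rw [el_zero]; exact one_mem T
      add_mem' := fun {a b} ha hb => by show el ι hodd (a + b) ∈ T; rw [el_add]; exact mul_mem ha hb
      neg_mem' := fun {a} ha => by
        show el ι hodd (-a) ∈ T
        rw [show el ι hodd (-a) = (el ι hodd a)⁻¹ from eq_inv_of_mul_eq_one_left (by
          rw [← el_add, neg_add_cancel, el_zero])]
        exact inv_mem ha }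
  have hact : ∀ d ∈ L, ∀ (σ : Perm (Fin m)) (k : Fin m → (ZMod p)ˣ), Perm.sign σ = 1 → chi (∏ i, k i) = 1 →
      (fun i => (k (σ.symm i) : ZMod p) * d (σ.symm i)) ∈ L := by
    intro d hd σ k hσ hk
    have hs : Perm.sign (mono σ (0 : Fin m → ZMod p) k) = 1 := by
      rw [mono, bs_zero, mul_one, map_mul, sign_liftHom, hσ, one_pow, sign_mulHom, hk, one_mul]
    have he : ev ι (mono σ (0 : Fin m → ZMod p) k) hs * el ι hodd d * (ev ι (mono σ 0 k) hs)⁻¹ =
        el ι hodd (fun i => (k (σ.symm i) : ZMod p) * d (σ.symm i)) :=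
      Subtype.ext (by
        rw [Subgroup.coe_mul, Subgroup.coe_mul, Subgroup.coe_inv, coe_ev, coe_el, coe_el, ← map_inv,
          ← map_mul, ← map_mul, mono_conj_bs])
    show el ι hodd _ ∈ T
    rw [← he]
    exact closed_conj hT hd (by rw [he]; exact hbase (el_mem ι hodd _))
  have htwist : ∀ d ∈ L, ∀ a b : Fin m, a ≠ b →
      (fun i => if i = a ∨ i = b then 2 * d i else 0) ∈ L := by
    intro d hd a b hab
    set k : Fin m → (ZMod p)ˣ := fun i => if i = a ∨ i = b then -1 else 1
    have hk : ∏ i, k i = 1 := by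
      show (∏ i, if i = a ∨ i = b then (-1 : (ZMod p)ˣ) else 1) = 1
      rw [← Finset.prod_filter, show (Finset.univ.filter fun i => i = a ∨ i = b) = {a, b} by
        ext i; simp, Finset.prod_pair hab, neg_one_mul, neg_neg]
    have h := L.sub_mem hd (hact d hd 1 k (map_one _) (by rw [hk, map_one]))
    convert h using 1
    funext i
    simp only [Pi.sub_apply, Perm.one_symm, Perm.one_apply, k]
    split_ifs with hi <;> simp [two_mul]
  have h2 := two_ne_zero_zmod hodd
  obtain ⟨i, hi⟩ : ∃ i, c i ≠ 0 := by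
    by_contra hno
    push Not at hno
    exact hz1 (by rw [show c = 0 from funext hno, el_zero])
  obtain ⟨j, hji, -⟩ := exists_third hm i i
  obtain ⟨l, hli, hlj⟩ := exists_third hm i j
  have hsingle : Pi.single i ((2 : ZMod p) * (2 * c i)) ∈ L := by
    have h1 := htwist _ (htwist c hzT i j hji.symm) i l hli.symm
    convert h1 using 1
    funext s
    rcases eq_or_ne s i with rfl | hs
    · simp
    rcases eq_or_ne s l with rfl | hs'
    · simp [hs, hlj]
    · simp [hs, hs']
  have hone : ∀ j a, Pi.single j a ∈ L := by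
    intro j a
    obtain ⟨σ, hσ, hσi⟩ := exists_even_perm hm i j
    set u := (2 : ZMod p) * (2 * c i)
    have h := L.nsmul_mem (hact _ hsingle σ 1 hσ (by simp)) (a / u).val
    convert h using 1
    funext s
    rw [Pi.smul_apply, nsmul_eq_mul, ZMod.natCast_zmod_val, Pi.one_apply, Units.val_one, one_mul]
    rcases eq_or_ne s j with rfl | hs
    · rw [Pi.single_eq_same, ← hσi, Equiv.symm_apply_apply, Pi.single_eq_same,
        div_mul_cancel₀ _ (mul_ne_zero h2 (mul_ne_zero h2 hi))]
    · rw [Pi.single_eq_of_ne hs, Pi.single_eq_of_ne (fun e => hs (by rw [← hσi, ← e, Equiv.apply_symm_apply])),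
        mul_zero]
  intro g hg
  obtain ⟨d, rfl⟩ := eq_el ι hodd hg
  show d ∈ L
  rw [← Finset.univ_sum_single d]
  exact sum_mem fun j _ => hone j _

end Cfsg.Lib.Fusion.AltSimple
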