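import Cfsg.Agent.Fusion.AltSimple.Square
import Cfsg.Agent.Fusion.CharAut

/-!
The fusion system of `A_n` at an odd prime `p` with `p² ≤ n` is simple.
-/

set_option autoImplicit false
set_option linter.unusedSectionVars false
set_option linter.style.haveILetI false
set_option linter.unusedSimpArgs false

namespace Cfsg.Lib.Fusion.AltSimple

open Equiv Cfsg Cfsg.FusionSystem Cfsg.Lib.SymSylow

variable {n m p : ℕ} [hp : Fact p.Prime]

theorem mono_one_one (σ : Perm (Fin m)) : mono σ (0 : Fin m → ZMod p) 1 = liftHom σ := by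
  rw [mono, bs_zero, mul_one, map_one, mul_one]

theorem mono_bs (b : Fin m → ZMod p) : mono 1 b 1 = bs b := by
  rw [mono, map_one, map_one, one_mul, mul_one]

theorem mono_mulHom (k : Fin m → (ZMod p)ˣ) : mono 1 (0 : Fin m → ZMod p) k = mulHom k := by
  rw [mono, bs_zero, map_one, mul_one, one_mul]

theorem exists_perm_three {α : Type*} [DecidableEq α] {a b d x y z : α} (hab : a ≠ b) (had : a ≠ d) (hbd : b ≠ d)
    (hxy : x ≠ y) (hxz : x ≠ z) (hyz : y ≠ z) : ∃ π : Perm α, π x = a ∧ π y = b ∧ π z = d := by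
  set π1 := Equiv.swap x a
  have h1 : π1 x = a := Equiv.swap_apply_left x a
  set π2 := Equiv.swap (π1 y) b * π1
  have h2y : π2 y = b := by simp [π2]
  have h2x : π2 x = a := by
    rw [Perm.mul_apply, h1, Equiv.swap_apply_of_ne_of_ne (fun e => hxy (π1.injective (h1.trans e))) hab]
  refine ⟨Equiv.swap (π2 z) d * π2, ?_, ?_, by simp⟩
  · rw [Perm.mul_apply, h2x, Equiv.swap_apply_of_ne_of_ne (fun e => hxz (π2.injective (h2x.trans e))) had]
  · rw [Perm.mul_apply, h2y, Equiv.swap_apply_of_ne_of_ne (fun e => hyz (π2.injective (h2y.trans e))) hbd]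

theorem mulSingle_comp_symm (σ : Perm (Fin m)) (a : Fin m) (u : (ZMod p)ˣ) :
    (Pi.mulSingle a u : Fin m → (ZMod p)ˣ) ∘ σ.symm = Pi.mulSingle (σ a) u := by
  funext i
  simp only [Function.comp_apply, Pi.mulSingle_apply, Equiv.symm_apply_eq]

theorem three_cycle_eq {α : Type*} [Fintype α] [DecidableEq α] {t : Perm α} (ht : t.IsThreeCycle) :
    ∃ a b d : α, a ≠ b ∧ a ≠ d ∧ b ≠ d ∧ t = Equiv.swap b d * Equiv.swap a b := by
  obtain ⟨a, ha⟩ := ht.isCycle.nonempty_support
  have hta := Perm.mem_support.1 ha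
  have h3 : ∀ q, t (t (t q)) = q := fun q => by
    have := congrArg (fun u : Perm α => u q) (ht.orderOf ▸ pow_orderOf_eq_one t : t ^ 3 = 1)
    simpa [pow_succ'] using this
  refine ⟨a, t (t a), t a, ?_, (Ne.symm hta), ?_, ?_⟩
  · intro e
    refine hta ?_
    have := congrArg t e
    rwa [h3] at this
  · exact fun e => hta (t.injective e)
  · have hne : a ≠ t (t a) := fun e => hta (by
      have := congrArg t e
      rwa [h3] at this)
    have hne2 : t (t a) ≠ t a := fun e => hta (t.injective e)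
    have hsupp : t.support = {a, t a, t (t a)} := by
      refine (Finset.eq_of_subset_of_card_le ?_ ?_).symm
      · intro q hq
        simp only [Finset.mem_insert, Finset.mem_singleton] at hq
        rcases hq with rfl | rfl | rfl <;> simp [ha, Perm.apply_mem_support, hta]
      · rw [ht.card_support, Finset.card_eq_three.2 ⟨a, t a, t (t a), Ne.symm hta, hne, hne2.symm, rfl⟩]
    refine Equiv.ext fun q => ?_
    rw [Perm.mul_apply]
    by_cases hq : q ∈ t.support
    · rw [hsupp] at hq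
      simp only [Finset.mem_insert, Finset.mem_singleton] at hq
      rcases hq with rfl | rfl | rfl
      · rw [Equiv.swap_apply_left, Equiv.swap_apply_left]
      · rw [Equiv.swap_apply_of_ne_of_ne hta (Ne.symm hne2), Equiv.swap_apply_right]
      · rw [Equiv.swap_apply_right, h3, Equiv.swap_apply_of_ne_of_ne hne (Ne.symm hta)]
    · rw [Perm.notMem_support.1 hq]
      rw [hsupp] at hq
      simp only [Finset.mem_insert, Finset.mem_singleton, not_or] at hq
      rw [Equiv.swap_apply_of_ne_of_ne hq.1 hq.2.2, Equiv.swap_apply_of_ne_of_ne hq.2.2 hq.2.1]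

variable (ι : Fin m × ZMod p ↪ Fin n) (hodd : Odd p) (e : ZMod p ↪ Fin m)
  (S : Sylow p (alternatingGroup (Fin n))) {E : FusionSystem (S : Subgroup (alternatingGroup (Fin n)))}

/-- The square translations in the alternating group. -/
noncomputable def sqSub : Subgroup (alternatingGroup (Fin n)) :=
  ((v ι).comp (sqHom e)).range.subgroupOf (alternatingGroup (Fin n))

include hodd in
theorem sign_sqHom (z : Multiplicative (ZMod p × ZMod p) × Multiplicative (Fin m → ZMod p)) :
    Perm.sign (sqHom e z) = 1 :=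
  sign_eq_one_of_pow hodd (k := 1) (by rw [pow_one]; exact sqHom_pow e z)

theorem mem_sqSub {g : alternatingGroup (Fin n)} :
    g ∈ sqSub ι e ↔ ∃ z, (g : Perm (Fin n)) = v ι (sqHom e z) :=
  ⟨fun ⟨z, hz⟩ => ⟨z, hz.symm⟩, fun ⟨z, hz⟩ => ⟨z, hz.symm⟩⟩

include hodd in
theorem sqSub_le (hbase : baseSub ι ≤ (S : Subgroup (alternatingGroup (Fin n))))
    (hsh : ∀ h, ev ι (liftHom (shHom e (Multiplicative.ofAdd 1))) h ∈ (S : Subgroup (alternatingGroup (Fin n)))) :
    sqSub ι e ≤ (S : Subgroup (alternatingGroup (Fin n))) := by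
  intro g hg
  obtain ⟨⟨q, c⟩, hz⟩ := (mem_sqSub ι e).1 hg
  obtain ⟨b, hb⟩ := sqHom_eq_lift e q.toAdd c.toAdd
  simp only [ofAdd_toAdd] at hb
  have hs : Perm.sign (liftHom (p := p) (shHom e (Multiplicative.ofAdd 1))) = 1 :=
    sign_eq_one_of_pow hodd (k := 1) (by
      rw [pow_one, ← map_pow, ← map_pow, show (Multiplicative.ofAdd (1 : ZMod p)) ^ p = 1 from
        Multiplicative.toAdd.injective (by simp), map_one, map_one])
  have he : g = ev ι (liftHom (shHom e (Multiplicative.ofAdd 1))) hs ^ q.toAdd.1.val * el ι hodd b := by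
    refine Subtype.ext ?_
    rw [Subgroup.coe_mul, SubgroupClass.coe_pow, coe_ev, coe_el, hz, hb, map_mul, ← map_pow, ← map_pow,
      ← map_pow, ← ofAdd_nsmul, nsmul_eq_mul, ZMod.natCast_zmod_val, mul_one]
  rw [he]
  exact mul_mem (pow_mem (hsh hs) _) (hbase (el_mem ι hodd b))

include hodd in
theorem centralizer_sqSub (hn : n ≤ m * p + 1) (g : alternatingGroup (Fin n))
    (h : ∀ x ∈ sqSub ι e, x * g = g * x) : g ∈ sqSub ι e := by
  classical
  have hcomm : ∀ z, Commute (g : Perm (Fin n)) (v ι (sqHom e z)) := fun z =>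
    (congrArg Subtype.val (h ⟨_, Perm.mem_alternatingGroup.2 ((v_sign ι _).trans (sign_sqHom hodd e z))⟩
      ((mem_sqSub ι e).2 ⟨z, rfl⟩))).symm
  obtain ⟨w, hw⟩ := exists_v ι hn (x := (g : Perm (Fin n))) fun ⟨i, y⟩ => by
    by_cases hi : i ∈ Set.range e
    · set d : Fin m → ZMod p := fun j => if j ∈ Set.range e then 1 else 0
      have hd : sqHom e (Multiplicative.ofAdd ((0 : ZMod p), (1 : ZMod p)), 1) = bs d := by
        refine Equiv.ext fun ⟨j, z⟩ => ?_
        simp only [sqHom, MonoidHom.noncommCoprod_apply, map_one, mul_one, MonoidHom.comp_apply, bs_apply, d]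
        by_cases hj : j ∈ Set.range e
        · obtain ⟨x, rfl⟩ := hj
          rw [big_apply, if_pos ⟨x, rfl⟩]
          show (e (x + 0), z + 1) = _
          rw [add_zero]
        · rw [big_apply_out e _ hj, if_neg hj, add_zero]
      exact mem_range_of_conj ι (c := d) (w := bs d) (by
        rw [← hd, (hcomm _).eq, mul_inv_cancel_right]) (i := i) (by simp only [d, if_pos hi]; exact one_ne_zero) y
    · have hd : sqHom e (1, Multiplicative.ofAdd (Pi.single i (1 : ZMod p))) = cyc i := by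
        refine Equiv.ext fun ⟨j, z⟩ => ?_
        simp only [sqHom, MonoidHom.noncommCoprod_apply, map_one, one_mul, cyc, bs_apply]
        by_cases hj : j ∈ Set.range e
        · obtain ⟨x, rfl⟩ := hj
          rw [offHom_apply, Pi.single_eq_of_ne (fun e' => hi ⟨x, e'⟩), add_zero]
        · rw [offHom_apply_out e _ hj, toAdd_ofAdd]
      exact mem_range_of_conj ι (c := Pi.single i 1) (w := cyc i) (by
        show (g : Perm (Fin n)) * v ι (cyc i) * (g : Perm (Fin n))⁻¹ = _
        rw [← hd, (hcomm _).eq, mul_inv_cancel_right]) (i := i) (by simp) y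
  obtain ⟨z, hz⟩ := mem_sqHom_range e (w := w) fun z => show w * sqHom e z = sqHom e z * w from
    v_injective ι (by rw [map_mul, map_mul, ← hw]; exact (hcomm z).eq)
  exact (mem_sqSub ι e).2 ⟨z, by rw [hw, hz]⟩

theorem big_normalizes {f : Perm (ZMod p × ZMod p)} (hf : ∀ x y, f (x + y) = f x + f y)
    (h : Perm.sign (big e f) = 1) :
    ev ι (big e f) h ∈ Subgroup.normalizer (sqSub ι e : Set (alternatingGroup (Fin n))) := by
  refine mem_normalizer_of_maps_finite fun g hg => ?_
  obtain ⟨⟨q, c⟩, hz⟩ := (mem_sqSub ι e).1 hg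
  refine (mem_sqSub ι e).2 ⟨(Multiplicative.ofAdd (f q.toAdd), c), ?_⟩
  rw [Subgroup.coe_mul, Subgroup.coe_mul, Subgroup.coe_inv, coe_ev, hz, ← map_inv, ← map_mul, ← map_mul]
  congr 1
  simp only [sqHom, MonoidHom.noncommCoprod_apply, MonoidHom.comp_apply]
  show big e f * (big e (tr q.toAdd) * offHom e c) * (big e f)⁻¹ = big e (tr (f q.toAdd)) * offHom e c
  rw [← tr_conj f hf, map_mul, map_mul, map_inv, ← mul_assoc, mul_assoc _ (offHom e c),
    ← ((big_commute_off e f c).inv_left).eq, ← mul_assoc]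

/-- The block permutation of the diagonal map. -/
noncomputable def sigT (t : (ZMod p)ˣ) : Perm (Fin m) := Perm.viaEmbeddingHom e (MulAction.toPerm t)

open Classical in
/-- The multiplier of the diagonal map. -/
noncomputable def kT (t : (ZMod p)ˣ) : Fin m → (ZMod p)ˣ := fun i => if i ∈ Set.range e then t⁻¹ else 1

theorem big_fdiag (t : (ZMod p)ˣ) : big e (fdiag t) = mono (sigT e t) 0 (kT e t) := by
  classical
  refine Equiv.ext fun ⟨i, y⟩ => ?_
  rw [mono_apply, Pi.zero_apply, add_zero]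
  by_cases hi : i ∈ Set.range e
  · obtain ⟨x, rfl⟩ := hi
    rw [big_apply, kT, if_pos ⟨x, rfl⟩]
    exact Prod.ext (Perm.viaEmbedding_apply (MulAction.toPerm t) e x).symm rfl
  · rw [big_apply_out e _ hi, kT, if_neg hi, Units.val_one, one_mul]
    exact Prod.ext (Perm.viaEmbedding_apply_of_notMem _ e i hi).symm rfl

theorem prod_kT (t : (ZMod p)ˣ) : ∏ i, kT e t i = t⁻¹ := by
  classical
  simp only [kT]
  rw [← Finset.prod_filter, Finset.prod_const,
    show (Finset.univ.filter fun i => i ∈ Set.range e) = Finset.univ.map e by ext i; simp,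
    Finset.card_map, Finset.card_univ, ZMod.card]
  exact Units.ext (by rw [Units.val_pow_eq_pow_val, ZMod.pow_card])

theorem sign_sigT (t : (ZMod p)ˣ) : Perm.sign (sigT e t) = chi t := by
  show Perm.sign ((MulAction.toPerm t : Perm (ZMod p)).viaEmbedding e) = _
  rw [Perm.viaEmbedding, Perm.sign_extendDomain]
  rfl

include hodd in
/-- The monomial automorphisms of the base, as maps of an invariant subsystem. -/
theorem mem_mapGroup_mono (hm : 3 ≤ m) (hn : n ≤ m * p + 1) (hEs : E.IsSaturated p)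
    (hinv : E.IsInvariantIn (groupFusionSystem (S : Subgroup (alternatingGroup (Fin n)))))
    (hbase : baseSub ι ≤ (S : Subgroup (alternatingGroup (Fin n))))
    (hsh : ∀ h, ev ι (liftHom (shHom e (Multiplicative.ofAdd 1))) h ∈ (S : Subgroup (alternatingGroup (Fin n))))
    {g : alternatingGroup (Fin n)} {σ : Perm (Fin m)} {b : Fin m → ZMod p} {k : Fin m → (ZMod p)ˣ}
    (hg : (g : Perm (Fin n)) = v ι (mono σ b k)) : g ∈ mapGroup S E hbase := by
  classical
  let KW : Subgroup (Perm (Fin m × ZMod p)) :=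
    ((mapGroup S E hbase).map (alternatingGroup (Fin n)).subtype).comap (v ι)
  have hmem : ∀ {x : alternatingGroup (Fin n)} {w : Perm (Fin m × ZMod p)}, (x : Perm (Fin n)) = v ι w →
      (w ∈ KW ↔ x ∈ mapGroup S E hbase) := fun {x w} hxw => by
    constructor
    · rintro ⟨y, hy, hye⟩
      rwa [show x = y from Subtype.ext (hxw.trans hye.symm)]
    · exact fun hx => ⟨x, hx, hxw⟩
  have hev : ∀ {w : Perm (Fin m × ZMod p)} (h : Perm.sign w = 1), w ∈ KW ↔ ev ι w h ∈ mapGroup S E hbase :=
    fun h => hmem (coe_ev ι _ h)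
  have hbs : ∀ c, bs c ∈ KW := fun c => (hmem (coe_el ι hodd c)).2
    (mem_mapGroup_of_mem S (mono_normalizes ι (σ := 1) (b := c) (k := 1) (by rw [coe_el, mono_bs]))
      (hbase (el_mem ι hodd c)))
  have hEn : (groupFusionSystem (S : Subgroup (alternatingGroup (Fin n)))).IsFullyNormalized (baseSub ι) :=
    fullyNormalized_of_normalized hbase fun s hs => by
      obtain ⟨σ', b', k', h'⟩ := exists_mono_of_normalize_sylow ι hodd S hn hbase (Subgroup.le_normalizer hs)
      exact mono_normalizes ι h'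
  have hpel : ∀ τ : Perm (Fin m), τ ^ p = 1 → liftHom τ ∈ KW := by
    intro τ hτ
    have hpow : liftHom (p := p) τ ^ p = 1 := by rw [← map_pow, hτ, map_one]
    have hs : Perm.sign (liftHom (p := p) τ) = 1 := sign_eq_one_of_pow hodd (k := 1) (by rw [pow_one]; exact hpow)
    have hN := mono_normalizes ι (g := ev ι _ hs) (σ := τ) (b := (0 : Fin m → ZMod p)) (k := 1)
      (by rw [coe_ev, mono_one_one])
    refine (hev hs).2 ((mem_mapGroup S).2 ⟨hN, isMap_pElement S hinv hEn hN (k := 1) (Subtype.ext ?_)⟩)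
    rw [SubgroupClass.coe_pow, coe_ev, pow_one, ← map_pow, hpow, map_one]
    rfl
  have hconj : ∀ (τ : Perm (Fin m)) (k : Fin m → (ZMod p)ˣ), Perm.sign (mono τ (0 : Fin m → ZMod p) k) = 1 →
      ∀ w ∈ KW, mono τ 0 k * w * (mono τ 0 k)⁻¹ ∈ KW := by
    intro τ k hs w hw
    obtain ⟨x, hx, hxe⟩ := hw
    refine (hmem (x := ev ι _ hs * x * (ev ι _ hs)⁻¹) ?_).2
      (conj_mem_mapGroup S hinv (mono_normalizes ι (coe_ev ι _ hs)) hx)
    have hxe' : (x : Perm (Fin n)) = v ι w := hxe
    rw [Subgroup.coe_mul, Subgroup.coe_mul, Subgroup.coe_inv, coe_ev, hxe', map_mul, map_mul, map_inv]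
  -- even block permutations
  have hlift : ∀ τ : Perm (Fin m), Perm.sign τ = 1 → liftHom τ ∈ KW := by
    intro τ hτ
    refine (Subgroup.closure_le (KW.comap (liftHom (p := p)))).2 ?_
      ((SetLike.ext_iff.1 Perm.closure_three_cycles_eq_alternating τ).2 (Perm.mem_alternatingGroup.2 hτ))
    intro t ht
    obtain ⟨a, b', d, hab, had, hbd, rfl⟩ := three_cycle_eq ht
    have h01 : (0 : ZMod p) ≠ 1 := zero_ne_one
    have h2 := two_ne_zero_zmod hodd
    obtain ⟨π, hπ0, hπ1, hπ2⟩ := exists_perm_three hab had hbd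
      (fun e' => h01 (e.injective e')) (fun e' => h2 (e.injective e').symm)
      (fun e' => h01 (by linear_combination (e.injective e' : (1 : ZMod p) = 2)))
    set c := π * shHom e (Multiplicative.ofAdd 1) * π⁻¹
    have hc : c ^ p = 1 := by
      rw [show c = MulAut.conj π (shHom e (Multiplicative.ofAdd 1)) from rfl, ← map_pow, ← map_pow,
        show (Multiplicative.ofAdd (1 : ZMod p)) ^ p = 1 from Multiplicative.toAdd.injective (by simp),
        map_one, map_one]
    have hsh' : ∀ x, shHom e (Multiplicative.ofAdd 1) (e x) = e (x + 1) := fun x =>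
      Perm.viaEmbedding_apply _ e x
    have hca : c a = b' := by
      rw [Perm.mul_apply, Perm.mul_apply, ← hπ0, Perm.inv_def, Equiv.symm_apply_apply, hsh', zero_add, hπ1]
    have hcb : c b' = d := by
      rw [Perm.mul_apply, Perm.mul_apply, ← hπ1, Perm.inv_def, Equiv.symm_apply_apply, hsh',
        one_add_one_eq_two, hπ2]
    show liftHom (Equiv.swap b' d * Equiv.swap a b') ∈ KW
    rw [show Equiv.swap b' d * Equiv.swap a b' = c * (Equiv.swap a b' * c⁻¹ * Equiv.swap a b') by
      conv_lhs => rw [← hca, ← hcb, Equiv.swap_apply_apply, hca]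
      group, map_mul]
    refine KW.mul_mem (hpel c hc) (hpel _ ?_)
    rw [show Equiv.swap a b' * c⁻¹ * Equiv.swap a b' = MulAut.conj (Equiv.swap a b') c⁻¹ by
      rw [MulAut.conj_apply, Equiv.swap_inv], ← map_pow, inv_pow, hc, inv_one, map_one]
  -- multiplications of trivial product
  let L2 : Subgroup (Fin m → (ZMod p)ˣ) := KW.comap mulHom
  have hcom : ∀ (τ : Perm (Fin m)) (k : Fin m → (ZMod p)ˣ), Perm.sign τ = 1 → chi (∏ i, k i) = 1 →
      (k ∘ τ.symm) * k⁻¹ ∈ L2 := by
    intro τ k hτ hk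
    show mulHom ((k ∘ τ.symm) * k⁻¹) ∈ KW
    rw [map_mul, map_inv, ← lift_conj_mul, mul_assoc, mul_assoc, ← mul_assoc (mulHom k) _ (mulHom k)⁻¹,
      ← map_inv, ← mono_mulHom k]
    refine mul_mem (hlift τ hτ) (hconj 1 k ?_ _ (hlift τ⁻¹ (by rw [map_inv, hτ, inv_one])))
    rw [mono_mulHom, sign_mulHom, hk]
  have hdelta : ∀ (c a : Fin m) (u : (ZMod p)ˣ), c ≠ a →
      (Pi.mulSingle c u * Pi.mulSingle a u⁻¹ : Fin m → (ZMod p)ˣ) ∈ L2 := by
    intro c a u hca
    obtain ⟨b', hb'c, hb'a⟩ := exists_third hm c a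
    set τ := Equiv.swap a b' * Equiv.swap b' c
    have hτ : Perm.sign τ = 1 := by
      rw [map_mul, Perm.sign_swap hb'a.symm, Perm.sign_swap hb'c]; rfl
    have hτa : τ a = b' := by
      rw [Perm.mul_apply, Equiv.swap_apply_of_ne_of_ne hb'a.symm hca.symm, Equiv.swap_apply_left]
    have hτb : τ b' = c := by
      rw [Perm.mul_apply, Equiv.swap_apply_left, Equiv.swap_apply_of_ne_of_ne hca hb'c.symm]
    have h1 := hcom τ (Pi.mulSingle a u * Pi.mulSingle b' u⁻¹) hτ (by
      rw [Finset.prod_congr rfl fun i _ => Pi.mul_apply _ _ i, Finset.prod_mul_distrib,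
        Finset.prod_pi_mulSingle', Finset.prod_pi_mulSingle', if_pos (Finset.mem_univ _),
        if_pos (Finset.mem_univ _), mul_inv_cancel, map_one])
    have h2 := hcom τ (Pi.mulSingle b' (u * u)) hτ (by
      rw [Finset.prod_pi_mulSingle', if_pos (Finset.mem_univ _), map_mul, Int.units_mul_self])
    rw [Pi.mul_comp, mulSingle_comp_symm, mulSingle_comp_symm, hτa, hτb] at h1
    rw [mulSingle_comp_symm, hτb] at h2
    convert L2.mul_mem h1 h2 using 1
    funext i
    simp only [Pi.mul_apply, Pi.inv_apply]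
    rcases eq_or_ne i a with rfl | hia
    · simp [hb'a.symm, hca.symm]
    rcases eq_or_ne i b' with rfl | hib
    · simp [hb'a, hb'c, mul_inv_rev]
    rcases eq_or_ne i c with rfl | hic
    · simp [hca, hb'c.symm]
    simp [hia, hib, hic]
  have hmul : ∀ k : Fin m → (ZMod p)ˣ, ∏ i, k i = 1 → mulHom k ∈ KW := by
    intro k hk
    show k ∈ L2
    set o : Fin m := ⟨0, by omega⟩
    have hk' : k = ∏ i, (Pi.mulSingle i (k i) * Pi.mulSingle o (k i)⁻¹ : Fin m → (ZMod p)ˣ) := by
      funext l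
      simp only [Finset.prod_apply, Pi.mul_apply, Finset.prod_mul_distrib]
      have h1 : ∏ i, (Pi.mulSingle i (k i) : Fin m → (ZMod p)ˣ) l = k l := by
        rw [← Finset.prod_apply, Finset.univ_prod_mulSingle]
      have h2 : ∏ i, (Pi.mulSingle o (k i)⁻¹ : Fin m → (ZMod p)ˣ) l = 1 := by
        simp only [Pi.mulSingle_apply]
        split_ifs with h
        · rw [Finset.prod_inv_distrib, hk, inv_one]
        · exact Finset.prod_const_one
      rw [h1, h2, mul_one]
    rw [hk']
    refine prod_mem fun i _ => ?_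
    rcases eq_or_ne i o with rfl | hio
    · rw [← Pi.mulSingle_mul, mul_inv_cancel, Pi.mulSingle_one]
      exact one_mem _
    · exact hdelta i o (k i) hio
  -- the diagonal maps of the square
  have hdiag : ∀ t : (ZMod p)ˣ, mono (sigT e t) (0 : Fin m → ZMod p) (kT e t) ∈ KW := by
    intro t
    have hR := sqSub_le ι hodd e S hbase hsh
    have hP : baseSub ι ⊔ sqSub ι e ≤ (S : Subgroup (alternatingGroup (Fin n))) := sup_le hbase hR
    let RW : Subgroup (Perm (Fin m × ZMod p)) :=
      ((mapGroup S E hR).map (alternatingGroup (Fin n)).subtype).comap (v ι)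
    have hU : ∀ a, big e (fU a) ∈ RW := by
      intro a
      obtain ⟨c, hc⟩ := big_fU e a
      have hs : Perm.sign (big e (fU a)) = 1 :=
        sign_eq_one_of_pow hodd (k := 1) (by rw [pow_one, hc, bs_pow])
      refine ⟨ev ι _ hs, mem_mapGroup_of_mem S (big_normalizes ι e (fU_add a) hs) ?_, rfl⟩
      rw [show ev ι _ hs = el ι hodd c from Subtype.ext (by rw [coe_ev, coe_el, hc])]
      exact hbase (el_mem ι hodd c)
    obtain ⟨u, hu⟩ := exists_sign_fsw (p := p) hodd
    have hV : ∀ a, big e (fV a) ∈ RW := by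
      intro a
      obtain ⟨x, hx, hxe⟩ := hU (a * (u : ZMod p))
      have hs : Perm.sign (big e (fsw u)) = 1 := (sign_big e _).trans hu
      refine ⟨ev ι _ hs * x * (ev ι _ hs)⁻¹, conj_mem_mapGroup S hinv (big_normalizes ι e (fsw_add u) hs) hx, ?_⟩
      have hxe' : (x : Perm (Fin n)) = v ι (big e (fU (a * (u : ZMod p)))) := hxe
      show ((ev ι _ hs * x * (ev ι _ hs)⁻¹ : alternatingGroup (Fin n)) : Perm (Fin n)) = _
      rw [Subgroup.coe_mul, Subgroup.coe_mul, Subgroup.coe_inv, coe_ev, hxe', fV_eq_conj u a]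
      simp only [map_mul, map_inv]
    have hD : big e (fdiag t) ∈ RW := by
      rw [fdiag_eq]
      simp only [map_mul]
      exact mul_mem (mul_mem (mul_mem (hV _) (hU _)) (hV _)) (mul_mem (mul_mem (hV _) (hU _)) (hV _))
    obtain ⟨x, hx, hxe⟩ := hD
    have hxm : (x : Perm (Fin n)) = v ι (mono (sigT e t) 0 (kT e t)) := hxe.trans (by rw [big_fdiag])
    have hxN := mono_normalizes ι hxm
    have hxP : x ∈ Subgroup.normalizer ((baseSub ι ⊔ sqSub ι e : Subgroup _) : Set (alternatingGroup (Fin n))) := by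
      refine mem_normalizer_of_maps_finite fun y hy => ?_
      have h1 : (baseSub ι ⊔ sqSub ι e).map (MulAut.conj x).toMonoidHom ≤ baseSub ι ⊔ sqSub ι e := by
        rw [Subgroup.map_sup]
        refine sup_le_sup ?_ ?_
        · rintro _ ⟨z, hz, rfl⟩; exact conj_mem_of_mem_normalizer hxN hz
        · rintro _ ⟨z, hz, rfl⟩; exact conj_mem_of_mem_normalizer ((mem_mapGroup S).1 hx).1 hz
      exact h1 ⟨y, hy, rfl⟩
    have hxE := mem_mapGroup_of_centric S hinv hEs hP le_sup_right
      (centric_group_of_centralizer hR (centralizer_sqSub ι hodd e hn)) hx hxP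
    exact (hmem hxm).2 ((mem_mapGroup S).2 ⟨hxN, ((mem_mapGroup S).1 hxE).2.mono le_sup_left⟩)
  -- decomposition
  have hsgn : Perm.sign σ * chi (∏ i, k i) = 1 := by
    have h := Perm.mem_alternatingGroup.1 g.2
    rw [hg, v_sign, mono, map_mul, map_mul, sign_liftHom, sign_mulHom,
      sign_eq_one_of_pow hodd (w := bs b) (k := 1) (by rw [pow_one]; exact bs_pow b), mul_one] at h
    rwa [Int.units_pow_eq_pow_mod_two, Nat.odd_iff.1 hodd, pow_one] at h
  set t := (∏ i, k i)⁻¹
  have hσ : Perm.sign (σ * (sigT e t)⁻¹) = 1 := by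
    rw [map_mul, map_inv, sign_sigT, show chi t = (chi (∏ i, k i))⁻¹ from map_inv _ _, inv_inv, hsgn]
  have hk : ∏ i, ((k * (kT e t)⁻¹) ∘ (sigT e t).symm) i = 1 := by
    simp only [Function.comp_apply]
    rw [Equiv.prod_comp (sigT e t).symm (k * (kT e t)⁻¹), Finset.prod_congr rfl fun i _ => Pi.mul_apply _ _ i,
      Finset.prod_mul_distrib, Finset.prod_congr rfl fun i _ => Pi.inv_apply _ i, Finset.prod_inv_distrib,
      prod_kT, inv_inv, mul_inv_cancel]
  refine (hmem hg).1 ?_
  rw [show mono σ b k = liftHom (σ * (sigT e t)⁻¹) * bs (b ∘ (sigT e t).symm) *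
      mulHom ((k * (kT e t)⁻¹) ∘ (sigT e t).symm) * mono (sigT e t) 0 (kT e t) by
    refine Equiv.ext fun ⟨i, x⟩ => ?_
    rw [Perm.mul_apply, Perm.mul_apply, Perm.mul_apply, mono_apply, mono_apply, mulHom_apply, bs_apply,
      liftHom_apply, Perm.mul_apply, Perm.inv_def]
    simp only [Function.comp_apply, Equiv.symm_apply_apply, Pi.mul_apply, Pi.inv_apply, Units.val_mul,
      Pi.zero_apply, add_zero]
    rw [mul_assoc, ← mul_assoc (((kT e t i)⁻¹ : (ZMod p)ˣ) : ZMod p), Units.inv_mul, one_mul]]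
  exact mul_mem (mul_mem (mul_mem (hlift _ hσ) (hbs _)) (hmul _ hk)) (hdiag t)

/-- For odd `p` with `p² ≤ n` and `n % p ≤ 1`. -/
theorem isSimple_odd (hodd : Odd p) (hnp : p ^ 2 ≤ n) (hb : n % p ≤ 1)
    (S : Sylow p (alternatingGroup (Fin n))) :
    (groupFusionSystem (S : Subgroup (alternatingGroup (Fin n)))).IsSimple p := by
  classical
  set m := n / p
  have hp3 : 3 ≤ p := by
    obtain ⟨j, hj⟩ := hodd
    have := hp.out.two_le
    omega
  have hpm : p ≤ m := (Nat.le_div_iff_mul_le hp.out.pos).2 (by rw [← pow_two]; exact hnp)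
  have hn : n ≤ m * p + 1 := by
    have : m * p + n % p = n := Nat.div_add_mod' n p
    omega
  obtain ⟨ι₀⟩ : Nonempty (Fin m × ZMod p ↪ Fin n) :=
    Function.Embedding.nonempty_of_card_le (by simp [m, Nat.div_mul_le_self])
  obtain ⟨e⟩ : Nonempty (ZMod p ↪ Fin m) := Function.Embedding.nonempty_of_card_le (by simp [hpm])
  set X : Subgroup (Perm (Fin m × ZMod p)) :=
    (baseHom (p := p) (m := m)).range ⊔ ((liftHom (p := p)).comp (shHom e)).range
  have hXp : IsPGroup p X := by
    rw [show X = ((liftHom (p := p)).comp (shHom e)).range ⊔ (baseHom (p := p) (m := m)).range from sup_comm _ _]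
    refine IsPGroup.to_sup_of_normal_right' ?_ ?_ ?_
    · rintro ⟨_, q, rfl⟩
      exact ⟨1, Subtype.ext (by
        rw [pow_one, SubgroupClass.coe_pow, ← map_pow, show q ^ p = 1 from Multiplicative.toAdd.injective (by simp),
          map_one]; rfl)⟩
    · rintro ⟨_, c, rfl⟩
      exact ⟨1, Subtype.ext (by rw [pow_one, SubgroupClass.coe_pow]; exact base_pow c)⟩
    · rintro _ ⟨q, rfl⟩
      refine mem_normalizer_of_maps_finite ?_
      rintro _ ⟨c, rfl⟩
      exact ⟨Multiplicative.ofAdd (c.toAdd ∘ (shHom e q).symm), (lift_conj_bs (shHom e q) c.toAdd).symm⟩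
  have hXA : ((X.map (v ι₀)).subgroupOf (alternatingGroup (Fin n))) |> IsPGroup p :=
    (hXp.map _).comap_subtype
  obtain ⟨a, ha⟩ := hXA.exists_le_sylow
  obtain ⟨g, hg⟩ := MulAction.exists_smul_eq (alternatingGroup (Fin n)) a S
  set ι := ι₀.trans (g : Perm (Fin n)).toEmbedding
  have hin : ∀ x : alternatingGroup (Fin n), ∀ w ∈ X, (x : Perm (Fin n)) = v ι w →
      x ∈ (S : Subgroup (alternatingGroup (Fin n))) := by
    intro x w hw hx
    rw [← hg, Sylow.coe_subgroup_smul]
    refine ⟨g⁻¹ * x * g, ha ?_, by simp [MulAut.conj_apply, mul_assoc]⟩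
    refine Subgroup.mem_subgroupOf.2 ⟨w, hw, ?_⟩
    rw [Subgroup.coe_mul, Subgroup.coe_mul, Subgroup.coe_inv, hx, v_conj]
    group
  have hbase : baseSub ι ≤ (S : Subgroup (alternatingGroup (Fin n))) := fun x hx => by
    obtain ⟨c, hc⟩ := (mem_baseSub ι).1 hx
    exact hin x _ (Subgroup.mem_sup_left ⟨_, rfl⟩) hc
  have hsh : ∀ h, ev ι (liftHom (shHom e (Multiplicative.ofAdd 1))) h ∈ (S : Subgroup (alternatingGroup (Fin n))) :=
    fun h => hin _ _ (Subgroup.mem_sup_right ⟨_, rfl⟩) (coe_ev ι _ h)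
  have hm : 3 ≤ m := le_trans hp3 hpm
  refine isSimple_of_autS S (fun hS => ?_)
    (fun T hT => or_iff_not_imp_left.mpr (stronglyClosed_odd ι hodd S hm hn hbase hT)) ?_
  · have h := hbase (el_mem ι hodd (Pi.single (⟨0, by omega⟩ : Fin m) 1))
    rw [hS, Subgroup.mem_bot, ← el_zero ι hodd] at h
    simpa using congrFun (el_inj ι hodd h) ⟨0, by omega⟩
  intro E hEs hinv x hx
  obtain ⟨σ, b, k, hxe⟩ := exists_mono_of_normalize_sylow ι hodd S hn hbase hx
  exact ((mem_mapGroup S).1 (mem_mapGroup_of_centric S hinv hEs le_rfl hbase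
    (centric_group_of_centralizer hbase (centralizer_baseSub ι hodd hn))
    (mem_mapGroup_mono ι hodd e S hm hn hEs hinv hbase hsh hxe) hx)).2

end Cfsg.Lib.Fusion.AltSimple
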