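import Cfsg.Agent.Fusion.AltSimple.Odd

/-!
The translations of a square of `p` blocks and the linear maps normalising them.
-/

set_option autoImplicit false
set_option linter.unusedSectionVars false
set_option linter.style.haveILetI false
set_option linter.unusedSimpArgs false

namespace Cfsg.Lib.Fusion.AltSimple

open Equiv Cfsg Cfsg.FusionSystem Cfsg.Lib.SymSylow

variable {n m p : ℕ} [hp : Fact p.Prime]

/-- Translations. -/
def trHom {A : Type*} [AddCommGroup A] : Multiplicative A →* Perm A where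
  toFun q := Equiv.addRight q.toAdd
  map_one' := Equiv.ext fun x => add_zero x
  map_mul' a b := Equiv.ext fun x => by
    show x + (a.toAdd + b.toAdd) = x + b.toAdd + a.toAdd
    abel

/-- A translation. -/
def tr {A : Type*} [AddCommGroup A] (q : A) : Perm A := trHom (Multiplicative.ofAdd q)

theorem tr_apply {A : Type*} [AddCommGroup A] (q x : A) : tr q x = x + q := rfl

theorem tr_conj {A : Type*} [AddCommGroup A] (f : Perm A) (hf : ∀ x y, f (x + y) = f x + f y) (q : A) :
    f * tr q * f⁻¹ = tr (f q) := by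
  rw [mul_inv_eq_iff_eq_mul]
  exact Equiv.ext fun x => hf x q

/-- The lower shear. -/
def fU (a : ZMod p) : Perm (ZMod p × ZMod p) where
  toFun q := (q.1, q.2 + a * q.1)
  invFun q := (q.1, q.2 - a * q.1)
  left_inv q := by simp
  right_inv q := by simp

/-- The upper shear. -/
def fV (a : ZMod p) : Perm (ZMod p × ZMod p) where
  toFun q := (q.1 + a * q.2, q.2)
  invFun q := (q.1 - a * q.2, q.2)
  left_inv q := by simp
  right_inv q := by simp

/-- Exchanging coordinates, with a multiplier. -/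
def fsw (g : (ZMod p)ˣ) : Perm (ZMod p × ZMod p) where
  toFun q := (q.2, (g : ZMod p) * q.1)
  invFun q := ((g⁻¹ : (ZMod p)ˣ) * q.2, q.1)
  left_inv q := Prod.ext (Units.inv_mul_cancel_left g q.1) rfl
  right_inv q := Prod.ext rfl (Units.mul_inv_cancel_left g q.2)

/-- Diagonal maps. -/
def fdiag (t : (ZMod p)ˣ) : Perm (ZMod p × ZMod p) where
  toFun q := ((t : ZMod p) * q.1, (t⁻¹ : (ZMod p)ˣ) * q.2)
  invFun q := ((t⁻¹ : (ZMod p)ˣ) * q.1, (t : ZMod p) * q.2)
  left_inv q := Prod.ext (Units.inv_mul_cancel_left t q.1) (Units.mul_inv_cancel_left t q.2)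
  right_inv q := Prod.ext (Units.mul_inv_cancel_left t q.1) (Units.inv_mul_cancel_left t q.2)

theorem fU_add (a : ZMod p) (x y : ZMod p × ZMod p) : fU a (x + y) = fU a x + fU a y :=
  Prod.ext rfl (by show x.2 + y.2 + a * (x.1 + y.1) = x.2 + a * x.1 + (y.2 + a * y.1); ring)

theorem fsw_add (g : (ZMod p)ˣ) (x y : ZMod p × ZMod p) : fsw g (x + y) = fsw g x + fsw g y :=
  Prod.ext rfl (mul_add _ _ _)

theorem fV_eq_conj (g : (ZMod p)ˣ) (b : ZMod p) : fV b = fsw g * fU (b * (g : ZMod p)) * (fsw g)⁻¹ := by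
  rw [eq_mul_inv_iff_mul_eq]
  refine Equiv.ext fun q => Prod.ext ?_ rfl
  show q.2 + b * ((g : ZMod p) * q.1) = q.2 + b * g * q.1
  ring

theorem fdiag_eq (t : (ZMod p)ˣ) :
    fdiag t = fV (t : ZMod p) * fU (-((t⁻¹ : (ZMod p)ˣ) : ZMod p)) * fV (t : ZMod p) *
      (fV (-1) * fU 1 * fV (-1)) := by
  refine Equiv.ext fun q => ?_
  have h : (t : ZMod p) * ((t⁻¹ : (ZMod p)ˣ) : ZMod p) = 1 := t.mul_inv
  refine Prod.ext ?_ ?_
  · simp only [fdiag, fU, fV, Perm.mul_apply, Equiv.coe_fn_mk]
    linear_combination ((t : ZMod p) * q.1 - q.2) * h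
  · simp only [fdiag, fU, fV, Perm.mul_apply, Equiv.coe_fn_mk]
    linear_combination q.1 * h

theorem exists_chi_neg (hodd : Odd p) : ∃ u : (ZMod p)ˣ, chi u = -1 := by
  classical
  obtain ⟨g, hg⟩ := IsCyclic.exists_generator (α := (ZMod p)ˣ)
  refine ⟨g, ?_⟩
  have hg1 : g ≠ 1 := by
    rintro rfl
    have := hg (-1)
    rw [Subgroup.zpowers_one_eq_bot, Subgroup.mem_bot, Units.ext_iff, Units.val_neg, Units.val_one] at this
    refine two_ne_zero_zmod hodd (?_ : (2 : ZMod p) = 0)
    linear_combination -this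
  set w : Perm (ZMod p) := MulAction.toPerm g
  have hw : ∀ x, w x = (g : ZMod p) * x := fun x => rfl
  have hpow : ∀ (i : ℕ) x, (w ^ i) x = ((g ^ i : (ZMod p)ˣ) : ZMod p) * x := by
    intro i
    induction i with
    | zero => intro x; simp
    | succ i ih => intro x; rw [pow_succ', Perm.mul_apply, ih, hw, pow_succ', Units.val_mul, mul_assoc]
  have hne : ∀ x : ZMod p, w x ≠ x ↔ x ≠ 0 := fun x => by
    constructor
    · rintro h rfl; exact h (by rw [hw, mul_zero])
    · intro hx h
      rw [hw] at h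
      exact hg1 (Units.ext (mul_right_cancel₀ hx (h.trans (one_mul x).symm)))
  have hc : w.IsCycle := ⟨1, (hne 1).2 one_ne_zero, fun y hy => by
    obtain ⟨i, -, hi⟩ := (isOfFinOrder_of_finite g).mem_zpowers_iff_mem_range_orderOf.1
      (hg (Units.mk0 y ((hne y).1 hy))) |> Finset.mem_image.1
    refine ⟨(i : ℤ), ?_⟩
    rw [zpow_natCast, hpow, hi, mul_one, Units.val_mk0]⟩
  show Perm.sign w = -1
  rw [hc.sign]
  have hs : w.support = Finset.univ.erase 0 := by
    ext x
    simp [Perm.mem_support, hne]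
  rw [hs, Finset.card_erase_of_mem (Finset.mem_univ _), Finset.card_univ, ZMod.card]
  obtain ⟨j, rfl⟩ := hodd
  rw [Nat.add_sub_cancel, pow_mul, Int.units_sq, one_pow]

theorem exists_sign_fsw (hodd : Odd p) : ∃ g : (ZMod p)ˣ, Perm.sign (fsw g) = 1 := by
  obtain ⟨u, hu⟩ := exists_chi_neg hodd
  have hd : Perm.sign (fsw u) = Perm.sign (fsw (1 : (ZMod p)ˣ)) * chi u ^ p := by
    rw [show fsw u = fsw (1 : (ZMod p)ˣ) *
      Equiv.prodCongrLeft fun _ : ZMod p => (MulAction.toPerm u : Perm (ZMod p)) from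
      Equiv.ext fun q => by
        refine Prod.ext rfl ?_
        show (u : ZMod p) * q.1 = ((1 : (ZMod p)ˣ) : ZMod p) * ((u : ZMod p) * q.1)
        rw [Units.val_one, one_mul],
      map_mul, Perm.sign_prodCongrLeft, Finset.prod_const, Finset.card_univ, ZMod.card]
    rfl
  rcases Int.units_eq_one_or (Perm.sign (fsw (1 : (ZMod p)ˣ))) with h | h
  · exact ⟨1, h⟩
  · exact ⟨u, by rw [hd, h, hu, hodd.neg_one_pow]; rfl⟩

variable (e : ZMod p ↪ Fin m)

/-- The shift of the chosen blocks. -/
noncomputable def shHom : Multiplicative (ZMod p) →* Perm (Fin m) := (Perm.viaEmbeddingHom e).comp trHom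

/-- The square of blocks. -/
def sqEmb : ZMod p × ZMod p ↪ Fin m × ZMod p := e.prodMap (Function.Embedding.refl _)

/-- Permutations of the square. -/
noncomputable def big : Perm (ZMod p × ZMod p) →* Perm (Fin m × ZMod p) := Perm.viaEmbeddingHom (sqEmb e)

theorem big_apply (f : Perm (ZMod p × ZMod p)) (x y : ZMod p) :
    big e f (e x, y) = (e (f (x, y)).1, (f (x, y)).2) :=
  Perm.viaEmbedding_apply f (sqEmb e) (x, y)

theorem big_apply_out (f : Perm (ZMod p × ZMod p)) {i : Fin m} (hi : i ∉ Set.range e) (y : ZMod p) :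
    big e f (i, y) = (i, y) :=
  Perm.viaEmbedding_apply_of_notMem f (sqEmb e) _ fun ⟨q, hq⟩ => hi ⟨q.1, congrArg Prod.fst hq⟩

theorem sign_big (f : Perm (ZMod p × ZMod p)) : Perm.sign (big e f) = Perm.sign f := by
  show Perm.sign (f.viaEmbedding (sqEmb e)) = _
  rw [Perm.viaEmbedding, Perm.sign_extendDomain]

open Classical in
/-- The part outside the square. -/
noncomputable def offHom : Multiplicative (Fin m → ZMod p) →* Perm (Fin m × ZMod p) :=
  baseHom.comp
    { toFun := fun c => Multiplicative.ofAdd fun i => if i ∈ Set.range e then 0 else c.toAdd i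
      map_one' := Multiplicative.toAdd.injective (funext fun i => by simp)
      map_mul' := fun a b => Multiplicative.toAdd.injective (funext fun i => by simp; split_ifs <;> simp) }

theorem offHom_apply (c : Multiplicative (Fin m → ZMod p)) (x y : ZMod p) : offHom e c (e x, y) = (e x, y) := by
  simp [offHom, baseHom_apply]

theorem offHom_apply_out (c : Multiplicative (Fin m → ZMod p)) {i : Fin m} (hi : i ∉ Set.range e) (y : ZMod p) :
    offHom e c (i, y) = (i, y + c.toAdd i) := by
  have hi' : ¬∃ a, e a = i := fun ⟨a, ha⟩ => hi ⟨a, ha⟩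
  simp [offHom, baseHom_apply, hi']

theorem big_commute_off (f : Perm (ZMod p × ZMod p)) (c : Multiplicative (Fin m → ZMod p)) :
    Commute (big e f) (offHom e c) := by
  refine Equiv.ext fun ⟨i, y⟩ => ?_
  rw [Perm.mul_apply, Perm.mul_apply]
  by_cases hi : i ∈ Set.range e
  · obtain ⟨x, rfl⟩ := hi
    rw [offHom_apply, big_apply, offHom_apply]
  · rw [offHom_apply_out e c hi, big_apply_out e f hi, big_apply_out e f hi, offHom_apply_out e c hi]

/-- The translations of the square and the outer blocks. -/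
noncomputable def sqHom :
    Multiplicative (ZMod p × ZMod p) × Multiplicative (Fin m → ZMod p) →* Perm (Fin m × ZMod p) :=
  MonoidHom.noncommCoprod ((big e).comp trHom) (offHom e) fun _ c => big_commute_off e _ c

theorem sqHom_eq_lift (q : ZMod p × ZMod p) (c : Fin m → ZMod p) :
    ∃ b, sqHom e (Multiplicative.ofAdd q, Multiplicative.ofAdd c) =
      liftHom (shHom e (Multiplicative.ofAdd q.1)) * bs b := by
  classical
  refine ⟨fun i => if i ∈ Set.range e then q.2 else c i, Equiv.ext fun ⟨i, y⟩ => ?_⟩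
  show (big e (tr q) * offHom e (Multiplicative.ofAdd c)) (i, y) = _
  rw [Perm.mul_apply, Perm.mul_apply, bs_apply, liftHom_apply]
  by_cases hi : i ∈ Set.range e
  · obtain ⟨x, rfl⟩ := hi
    rw [offHom_apply, big_apply, if_pos ⟨x, rfl⟩]
    refine Prod.ext ?_ rfl
    exact (Perm.viaEmbedding_apply (tr q.1) e x).symm
  · rw [offHom_apply_out _ _ hi, big_apply_out _ _ hi, if_neg hi]
    exact Prod.ext (Perm.viaEmbedding_apply_of_notMem _ e i hi).symm rfl

theorem sqHom_pow (z : Multiplicative (ZMod p × ZMod p) × Multiplicative (Fin m → ZMod p)) :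
    sqHom e z ^ p = 1 := by
  rw [← map_pow, show z ^ p = 1 from Prod.ext
    (Multiplicative.toAdd.injective (Prod.ext (by simp) (by simp)))
    (Multiplicative.toAdd.injective (funext fun i => by simp)), map_one]

theorem big_fU (a : ZMod p) :
    ∃ c, big e (fU a) = bs c := by
  classical
  refine ⟨fun i => if h : i ∈ Set.range e then a * h.choose else 0, Equiv.ext fun ⟨i, y⟩ => ?_⟩
  rw [bs_apply]
  by_cases hi : i ∈ Set.range e
  · rw [dif_pos hi]
    have hs := hi.choose_spec
    obtain ⟨x, rfl⟩ := hi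
    rw [big_apply, e.injective hs]
    rfl
  · rw [dif_neg hi, big_apply_out _ _ hi, add_zero]

/-- The centraliser of the square translations. -/
theorem mem_sqHom_range {w : Perm (Fin m × ZMod p)} (h : ∀ z, Commute w (sqHom e z)) :
    w ∈ (sqHom e).range := by
  classical
  have hoff : ∀ i ∉ Set.range e, ∀ y, w (i, y + 1) = ((w (i, y)).1, (w (i, y)).2 + 1) ∧ (w (i, y)).1 = i := by
    intro i hi y
    have h1 := congrArg (fun u : Perm (Fin m × ZMod p) => u (i, y))
      (h (1, Multiplicative.ofAdd (Pi.single i (1 : ZMod p)))).eq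
    simp only [sqHom, MonoidHom.noncommCoprod_apply, map_one, one_mul, Perm.mul_apply,
      offHom_apply_out e _ hi, toAdd_ofAdd, Pi.single_eq_same] at h1
    have hfst : (w (i, y)).1 = i := by
      by_contra hne
      have h2 : offHom e (Multiplicative.ofAdd (Pi.single i (1 : ZMod p))) (w (i, y)) = w (i, y) := by
        rw [← Prod.mk.eta (p := w (i, y))]
        by_cases hj : (w (i, y)).1 ∈ Set.range e
        · obtain ⟨x, hx⟩ := hj; rw [← hx, offHom_apply]
        · rw [offHom_apply_out e _ hj, toAdd_ofAdd, Pi.single_eq_of_ne hne, add_zero]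
      rw [h2] at h1
      simpa using congrArg Prod.snd (w.injective h1)
    refine ⟨?_, hfst⟩
    rw [h1, ← Prod.mk.eta (p := w (i, y)), hfst, offHom_apply_out e _ hi, toAdd_ofAdd, Pi.single_eq_same]
  have hlin : ∀ i ∉ Set.range e, ∀ y, w (i, y) = (i, y + (w (i, 0)).2) := by
    intro i hi y
    obtain ⟨j, rfl⟩ := ZMod.natCast_zmod_surjective y
    induction j with
    | zero => exact Prod.ext (by simpa using (hoff i hi 0).2) (by simp)
    | succ j ih =>
      rw [Nat.cast_succ, (hoff i hi _).1, ih]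
      exact Prod.ext rfl (by push_cast; ring)
  have hin : ∀ x y, (w (e x, y)).1 ∈ Set.range e := by
    intro x y
    by_contra hno
    set q := w (e x, y) with hq
    have h1 : w (q.1, q.2 - (w (q.1, 0)).2) = q := by rw [hlin _ hno]; exact Prod.ext rfl (sub_add_cancel _ _)
    exact hno ⟨x, (congrArg Prod.fst (w.injective (h1.trans hq))).symm⟩ 
  obtain ⟨a, ha⟩ := hin 0 0
  set q₀ : ZMod p × ZMod p := (a, (w (e 0, 0)).2)
  refine ⟨(Multiplicative.ofAdd q₀, Multiplicative.ofAdd fun i => (w (i, 0)).2), Equiv.ext fun ⟨i, y⟩ => ?_⟩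
  simp only [sqHom, MonoidHom.noncommCoprod_apply, MonoidHom.comp_apply, Perm.mul_apply]
  by_cases hi : i ∈ Set.range e
  · obtain ⟨x, rfl⟩ := hi
    rw [offHom_apply, big_apply]
    have h1 := congrArg (fun u : Perm (Fin m × ZMod p) => u (e 0, 0)) (h (Multiplicative.ofAdd (x, y), 1)).eq
    have he : w (e 0, 0) = (e a, (w (e 0, 0)).2) := Prod.ext ha.symm rfl
    simp only [sqHom, MonoidHom.noncommCoprod_apply, map_one, mul_one, MonoidHom.comp_apply,
      Perm.mul_apply] at h1
    rw [he, big_apply, big_apply] at h1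
    have h2 : (trHom (Multiplicative.ofAdd (x, y))) ((0 : ZMod p), (0 : ZMod p)) = (x, y) := by
      show ((0 : ZMod p), (0 : ZMod p)) + (x, y) = (x, y); simp
    rw [h2] at h1
    rw [h1]
    exact Prod.ext (congrArg e (add_comm x a)) (add_comm y _)
  · rw [offHom_apply_out _ _ hi, big_apply_out _ _ hi, hlin i hi y]
    rfl

end Cfsg.Lib.Fusion.AltSimple
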