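import Cfsg.Agent.Fusion.AltSimple.Base

/-!
The 2-fusion system of an alternating group of degree at least 6 is simple.
-/

set_option autoImplicit false
set_option linter.unusedSectionVars false
set_option linter.style.haveILetI false
set_option linter.unusedSimpArgs false

namespace Cfsg.Lib.Fusion.AltSimple

open Equiv Cfsg Cfsg.FusionSystem Cfsg.Lib.SymSylow

variable {n m : ℕ}

theorem zmod_two_cases (x : ZMod 2) : x = 0 ∨ x = 1 := by revert x; decide

theorem cyc_eq_swap (i : Fin m) : cyc (p := 2) i = Equiv.swap (i, 0) (i, 1) := by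
  refine Equiv.ext fun ⟨j, x⟩ => ?_
  by_cases h : j = i
  · subst h
    rw [cyc_apply_same]
    rcases zmod_two_cases x with rfl | rfl
    · rw [Equiv.swap_apply_left, zero_add]
    · rw [Equiv.swap_apply_right]; exact Prod.ext rfl (show (1 : ZMod 2) + 1 = 0 by decide)
  · rw [cyc_apply_ne h, Equiv.swap_apply_of_ne_of_ne (fun e => h (congrArg Prod.fst e))
      (fun e => h (congrArg Prod.fst e))]

theorem sign_cyc (i : Fin m) : Perm.sign (cyc (p := 2) i) = -1 := by
  rw [cyc_eq_swap, Perm.sign_swap]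
  exact fun e => zero_ne_one (congrArg Prod.snd e)

theorem mulHom_two (k : Fin m → (ZMod 2)ˣ) : mulHom k = 1 := by
  rw [Subsingleton.elim k 1, map_one]

theorem mono_two (σ : Perm (Fin m)) (b : Fin m → ZMod 2) (k : Fin m → (ZMod 2)ˣ) :
    mono σ b k = liftHom σ * bs b := by
  rw [mono, mulHom_two, mul_one]

theorem sign_lift_two (σ : Perm (Fin m)) : Perm.sign (liftHom (p := 2) σ) = 1 := by
  rw [sign_liftHom]; exact Int.units_sq _

section Coord

variable (ι : Fin m × ZMod 2 ↪ Fin n)

/-- The transposition of block `i`. -/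
noncomputable def tau (i : Fin m) : Perm (Fin n) := v ι (cyc i)

theorem sign_tau (i : Fin m) : Perm.sign (tau ι i) = -1 := by rw [tau, v_sign, sign_cyc]

theorem tau_mul_self (i : Fin m) : tau ι i * tau ι i = 1 := by
  rw [tau, ← map_mul, cyc, ← bs_add, show (Pi.single i (1 : ZMod 2) : Fin m → ZMod 2) + Pi.single i 1 = 0 from
    funext fun j => CharTwo.add_self_eq_zero _, bs_zero, map_one]

theorem tau_eq_swap (i : Fin m) (a : ZMod 2) :
    tau ι i = Equiv.swap (ι (i, a)) (ι (i, a + 1)) := by
  have h0 : tau ι i = Equiv.swap (ι (i, 0)) (ι (i, 1)) := by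
    refine Equiv.ext fun y => ?_
    by_cases hy : y ∈ Set.range ι
    · obtain ⟨⟨j, x⟩, rfl⟩ := hy
      rw [tau, v_apply, ι.injective.swap_apply, cyc_eq_swap]
    · rw [tau, v_apply_out _ _ hy, Equiv.swap_apply_of_ne_of_ne (fun e => hy ⟨_, e.symm⟩) fun e => hy ⟨_, e.symm⟩]
  rcases zmod_two_cases a with rfl | rfl
  · rw [h0, zero_add]
  · rw [h0, Equiv.swap_comm, show (1 : ZMod 2) + 1 = 0 from by decide]

theorem swap_eq_of_apply {α : Type*} [DecidableEq α] {u : Perm α} (hu : u.IsSwap) {a b : α}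
    (h : u a = b) (hne : b ≠ a) : u = Equiv.swap a b := by
  obtain ⟨x, y, -, rfl⟩ := hu
  rw [Equiv.swap_apply_def] at h
  split_ifs at h with h1 h2
  · rw [h1, h]
  · rw [h2, h, Equiv.swap_comm]
  · exact absurd h.symm hne

theorem isPGroup_not_three {P : Subgroup (Perm (Fin n))} (hP : IsPGroup 2 P) {x y z : Fin n}
    (hxy : x ≠ y) (hxz : x ≠ z) (hyz : y ≠ z) (h1 : Equiv.swap x y ∈ P) (h2 : Equiv.swap x z ∈ P) :
    False := by
  have h := (Perm.isThreeCycle_swap_mul_swap_same hxy hxz hyz).orderOf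
  obtain ⟨k, hk⟩ := hP ⟨_, P.mul_mem h1 h2⟩
  have h' : (Equiv.swap x y * Equiv.swap x z) ^ 2 ^ k = 1 := congrArg Subtype.val hk
  have h3 := orderOf_dvd_of_pow_eq_one h'
  rw [h] at h3
  exact absurd (Nat.prime_three.dvd_of_dvd_pow h3) (by decide)

theorem isSwap_mem (hn : n ≤ m * 2 + 1) {P : Subgroup (Perm (Fin n))} (hP : IsPGroup 2 P)
    (htau : ∀ i, tau ι i ∈ P) {s : Perm (Fin n)} (hs : s.IsSwap) (hsP : s ∈ P) :
    ∃ i, s = tau ι i := by
  obtain ⟨x, y, hxy, rfl⟩ := hs
  have key : ∀ x y : Fin n, x ≠ y → Equiv.swap x y ∈ P → x ∈ Set.range ι →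
      ∃ i, Equiv.swap x y = tau ι i := by
    rintro _ y hxy hP' ⟨⟨i, a⟩, rfl⟩
    refine ⟨i, ?_⟩
    rw [tau_eq_swap ι i a]
    by_contra hne
    have hne' : y ≠ ι (i, a + 1) := fun e => hne (by rw [e])
    refine isPGroup_not_three hP hxy (fun e => ?_) hne' hP' (tau_eq_swap ι i a ▸ htau i)
    simpa using congrArg Prod.snd (ι.injective e)
  by_cases hx : x ∈ Set.range ι
  · exact key x y hxy hsP hx
  by_cases hy : y ∈ Set.range ι
  · obtain ⟨i, hi⟩ := key y x hxy.symm (Equiv.swap_comm x y ▸ hsP) hy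
    exact ⟨i, by rw [Equiv.swap_comm, hi]⟩
  exfalso
  obtain ⟨w, hw⟩ := exists_v ι hn (x := Equiv.swap x y) fun b => by
    rw [Equiv.swap_apply_of_ne_of_ne (fun e => hx ⟨b, e⟩) fun e => hy ⟨b, e⟩]
    exact ⟨b, rfl⟩
  have := congrArg (fun u : Perm (Fin n) => u x) hw
  simp only [Equiv.swap_apply_left, v_apply_out _ _ hx] at this
  exact hxy this.symm

theorem isSwap_tau (i : Fin m) : (tau ι i).IsSwap :=
  ⟨ι (i, 0), ι (i, 0 + 1), fun e => by simpa using congrArg Prod.snd (ι.injective e), tau_eq_swap ι i 0⟩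

theorem isSwap_conj {s g : Perm (Fin n)} (h : s.IsSwap) : (g * s * g⁻¹).IsSwap := by
  obtain ⟨x, y, hxy, rfl⟩ := h
  exact ⟨g x, g y, fun e => hxy (g.injective e), by rw [Equiv.swap_apply_apply]⟩

theorem exists_mono_of_normalize (hn : n ≤ m * 2 + 1) {P : Subgroup (Perm (Fin n))} (hP : IsPGroup 2 P)
    (htau : ∀ i, tau ι i ∈ P) {g : Perm (Fin n)} (hg : ∀ i, g * tau ι i * g⁻¹ ∈ P) :
    ∃ σ b, g = v ι (liftHom σ * bs b) := by
  obtain ⟨σ, b, k, rfl⟩ := exists_mono_of_conj ι hn fun i => by
    obtain ⟨j, hj⟩ := isSwap_mem ι hn hP htau (isSwap_conj (g := g) (isSwap_tau ι i)) (hg i)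
    exact ⟨_, hj⟩
  exact ⟨σ, b, by rw [mono_two]⟩

/-- The group of the bases. -/
noncomputable def fullBase : Subgroup (Perm (Fin n)) := ((v ι).comp (baseHom (p := 2) (m := m))).range

theorem mem_fullBase (c : Fin m → ZMod 2) : v ι (bs c) ∈ fullBase ι := ⟨Multiplicative.ofAdd c, rfl⟩

theorem tau_mem_fullBase (i : Fin m) : tau ι i ∈ fullBase ι := mem_fullBase ι _

theorem isPGroup_fullBase : IsPGroup 2 (fullBase ι) := by
  rintro ⟨_, c, rfl⟩
  refine ⟨1, Subtype.ext ?_⟩
  rw [pow_one, SubgroupClass.coe_pow, ← map_pow, show c ^ 2 = 1 from ?_, map_one]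
  · rfl
  · exact Multiplicative.toAdd.injective (funext fun i => by
      show (2 : ℕ) • c.toAdd i = 0
      rw [two_nsmul, CharTwo.add_self_eq_zero])

theorem lift_normalizes (σ : Perm (Fin m)) :
    v ι (liftHom σ) ∈ Subgroup.normalizer (fullBase ι : Set (Perm (Fin n))) := by
  refine mem_normalizer_of_maps_finite ?_
  rintro _ ⟨c, rfl⟩
  refine ⟨Multiplicative.ofAdd (c.toAdd ∘ σ.symm), ?_⟩
  show v ι (bs (c.toAdd ∘ σ.symm)) = v ι (liftHom σ) * v ι (bs c.toAdd) * (v ι (liftHom σ))⁻¹
  rw [← map_inv, ← map_mul, ← map_mul, lift_conj_bs]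

theorem isPGroup_base_lift {Q : Subgroup (Perm (Fin m))} (hQ : IsPGroup 2 Q) :
    IsPGroup 2 ↥(fullBase ι ⊔ Q.map ((v ι).comp (liftHom (p := 2)))) := by
  rw [sup_comm]
  refine IsPGroup.to_sup_of_normal_right' (hQ.map _) (isPGroup_fullBase ι) ?_
  rintro _ ⟨σ, -, rfl⟩
  exact lift_normalizes ι σ

theorem exists_trans {k : ℕ} (P : Sylow 2 (Perm (Fin n))) (ι₀ : Fin k × ZMod 2 ↪ Fin n)
    {X : Subgroup (Perm (Fin k × ZMod 2))} (hX : IsPGroup 2 X) :
    ∃ ι' : Fin k × ZMod 2 ↪ Fin n, ∀ w ∈ X, v ι' w ∈ (P : Subgroup (Perm (Fin n))) := by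
  obtain ⟨a, ha⟩ := (hX.map (v ι₀)).exists_le_sylow
  obtain ⟨g, hg⟩ := MulAction.exists_smul_eq (Perm (Fin n)) a P
  refine ⟨ι₀.trans g.toEmbedding, fun w hw => ?_⟩
  rw [v_conj, ← hg, Sylow.coe_subgroup_smul]
  exact ⟨v ι₀ w, ha ⟨w, hw, rfl⟩, rfl⟩

end Coord

theorem normalizer_sylow_perm (k : ℕ) (P : Sylow 2 (Perm (Fin k))) :
    Subgroup.normalizer ((P : Subgroup (Perm (Fin k))) : Set (Perm (Fin k))) ≤ P := by
  induction k using Nat.strong_induction_on with
  | _ k ih =>
    intro g hg
    rcases Nat.lt_or_ge k 2 with hk | hk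
    · haveI : Subsingleton (Fin k) := Fin.subsingleton_iff_le_one.2 (by omega)
      rw [Subsingleton.elim g 1]; exact one_mem _
    set m := k / 2
    have hn : k ≤ m * 2 + 1 := by omega
    obtain ⟨ι₀⟩ : Nonempty (Fin m × ZMod 2 ↪ Fin k) :=
      Function.Embedding.nonempty_of_card_le (by simp; omega)
    obtain ⟨ι, hι⟩ := exists_trans P ι₀ (X := (baseHom (p := 2) (m := m)).range) (fun ⟨_, c, hc⟩ =>
      ⟨1, Subtype.ext (by subst hc; rw [pow_one, SubgroupClass.coe_pow]; exact base_pow _)⟩)
    have hbase : fullBase ι ≤ (P : Subgroup (Perm (Fin k))) := by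
      rintro _ ⟨c, rfl⟩; exact hι _ ⟨c, rfl⟩
    have htau : ∀ i, tau ι i ∈ (P : Subgroup (Perm (Fin k))) := fun i => hbase (tau_mem_fullBase ι i)
    have hform : ∀ x ∈ Subgroup.normalizer ((P : Subgroup (Perm (Fin k))) : Set (Perm (Fin k))),
        ∃ σ b, x = v ι (liftHom σ * bs b) := fun x hx =>
      exists_mono_of_normalize ι hn P.2 htau fun i => conj_mem_of_mem_normalizer hx (htau i)
    set Q := (P : Subgroup (Perm (Fin k))).comap ((v ι).comp (liftHom (p := 2)))
    have hinj : Function.Injective ((v ι).comp (liftHom (p := 2) (m := m))) := fun a b h => by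
      have h' := v_injective ι h
      refine Equiv.ext fun i => ?_
      simpa [liftHom_apply] using congrArg (fun w : Perm (Fin m × ZMod 2) => (w (i, 0)).1) h'
    have hQ : IsPGroup 2 Q := P.2.comap_of_injective _ hinj
    obtain ⟨Q', hQ'⟩ := hQ.exists_le_sylow
    have hQQ : (Q' : Subgroup (Perm (Fin m))) = Q := by
      refine le_antisymm ?_ hQ'
      have hle : (P : Subgroup (Perm (Fin k))) ≤
          fullBase ι ⊔ (Q' : Subgroup (Perm (Fin m))).map ((v ι).comp (liftHom (p := 2))) := by
        intro x hx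
        obtain ⟨σ, b, rfl⟩ := hform x (Subgroup.le_normalizer hx)
        have hσ : σ ∈ Q := by
          show v ι (liftHom σ) ∈ (P : Subgroup (Perm (Fin k)))
          have := mul_mem hx (inv_mem (hbase (mem_fullBase ι b)))
          rwa [map_mul, mul_inv_cancel_right] at this
        rw [map_mul]
        exact mul_mem (Subgroup.mem_sup_right ⟨σ, hQ' hσ, rfl⟩) (Subgroup.mem_sup_left (mem_fullBase ι b))
      have heq := P.3 (isPGroup_base_lift ι Q'.2) hle
      intro σ hσ
      show v ι (liftHom σ) ∈ (P : Subgroup (Perm (Fin k)))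
      rw [← heq]
      exact Subgroup.mem_sup_right ⟨σ, hσ, rfl⟩
    obtain ⟨σ, b, rfl⟩ := hform g hg
    have hσN : v ι (liftHom σ) ∈ Subgroup.normalizer ((P : Subgroup (Perm (Fin k))) : Set (Perm (Fin k))) := by
      have := mul_mem hg (Subgroup.le_normalizer (inv_mem (hbase (mem_fullBase ι b))))
      rwa [map_mul, mul_inv_cancel_right] at this
    have hσ : σ ∈ Subgroup.normalizer ((Q' : Subgroup (Perm (Fin m))) : Set (Perm (Fin m))) := by
      rw [hQQ]
      refine mem_normalizer_of_maps_finite fun τ hτ => ?_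
      show v ι (liftHom (σ * τ * σ⁻¹)) ∈ (P : Subgroup (Perm (Fin k)))
      simp only [map_mul, map_inv]
      exact conj_mem_of_mem_normalizer hσN hτ
    have := ih m (by omega) Q' hσ
    rw [hQQ] at this
    rw [map_mul]
    exact mul_mem this (hbase (mem_fullBase ι b))

theorem two_commute (ι : Fin m × ZMod 2 ↪ Fin n) (hn : n ≤ m * 2 + 1) (hm : 3 ≤ m) {x : Perm (Fin n)}
    (h : ∀ a b : Fin m, a ≠ b → Commute x (v ι (bs (Pi.single a 1 + Pi.single b 1)))) (i : Fin m) :
    Commute x (v ι (cyc i)) := by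
  have hthird : ∀ a : Fin m, ∃ b, b ≠ a := fun a => by
    obtain ⟨b, hb⟩ := Fin.exists_ne_and_ne_of_two_lt a a (by omega)
    exact ⟨b, hb.1⟩
  obtain ⟨w, rfl⟩ := exists_v ι hn (x := x) fun ⟨a, y⟩ => by
    obtain ⟨b, hb⟩ := hthird a
    refine mem_range_of_conj ι (c := Pi.single a 1 + Pi.single b 1) (w := bs (Pi.single a 1 + Pi.single b 1))
      ?_ (i := a) (by simp [hb.symm]) y
    rw [(h a b hb.symm).eq, mul_inv_cancel_right]
  have hw : ∀ a b : Fin m, a ≠ b → ∀ q, w (bs (Pi.single a (1 : ZMod 2) + Pi.single b 1) q) =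
      bs (Pi.single a 1 + Pi.single b 1) (w q) := fun a b hab q => by
    have h' := (h a b hab).eq
    rw [← map_mul, ← map_mul] at h'
    exact congrArg (fun u : Perm (Fin m × ZMod 2) => u q) (v_injective ι h')
  have hfst : ∀ a y, (w (a, y)).1 = a := by
    intro a y
    have hmem : ∀ b, b ≠ a → (w (a, y)).1 = a ∨ (w (a, y)).1 = b := by
      intro b hb
      by_contra hno
      push Not at hno
      have h1 := hw a b hb.symm (a, y)
      rw [bs_apply] at h1
      have h2 : bs (Pi.single a (1 : ZMod 2) + Pi.single b 1) (w (a, y)) = w (a, y) := by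
        rw [← Prod.mk.eta (p := w (a, y)), bs_apply]
        simp [hno.1, hno.2]
      rw [h2] at h1
      have h3 := congrArg Prod.snd (w.injective h1)
      simp [hb.symm] at h3
    obtain ⟨b, hb⟩ := hthird a
    obtain ⟨b', hb'1, hb'2⟩ := Fin.exists_ne_and_ne_of_two_lt a b (by omega)
    rcases hmem b hb with h1 | h1
    · exact h1
    rcases hmem b' hb'1 with h2 | h2
    · exact h2
    · exact absurd (h2.symm.trans h1) hb'2
  show v ι w * v ι (cyc i) = v ι (cyc i) * v ι w
  rw [← map_mul, ← map_mul]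
  congr 1
  refine Equiv.ext fun ⟨a, y⟩ => ?_
  rw [Perm.mul_apply, Perm.mul_apply]
  have hwp : ∀ a y, w (a, y) = (a, (w (a, y)).2) := fun a y => Prod.ext (hfst a y) rfl
  by_cases hai : a = i
  · subst hai
    obtain ⟨b, hb⟩ := hthird a
    have h1 := hw a b hb.symm (a, y)
    rw [bs_apply, hwp a y, bs_apply] at h1
    simp [hb.symm] at h1
    rw [cyc_apply_same, h1, hwp a y, cyc_apply_same]
  · rw [cyc_apply_ne hai, hwp a y, cyc_apply_ne hai]

theorem centralizer_baseSub_two (ι : Fin m × ZMod 2 ↪ Fin n) (hn : n ≤ m * 2 + 1) (hm : 3 ≤ m)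
    (g : alternatingGroup (Fin n)) (h : ∀ e ∈ baseSub ι, e * g = g * e) : g ∈ baseSub ι := by
  refine (mem_baseSub ι).2 (exists_base_of_commute ι hn (two_commute ι hn hm fun a b hab => ?_))
  have hev : v ι (bs (Pi.single a 1 + Pi.single b 1)) ∈ alternatingGroup (Fin n) := by
    rw [Perm.mem_alternatingGroup, v_sign, bs_add, map_mul]
    show Perm.sign (cyc (p := 2) a) * Perm.sign (cyc (p := 2) b) = 1
    rw [sign_cyc, sign_cyc]; rfl
  exact (congrArg Subtype.val (h ⟨_, hev⟩ ((mem_baseSub ι).2 ⟨_, rfl⟩))).symm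

set_option maxHeartbeats 1600000 in
/-- The 2-fusion system of `A_n`, `n ≥ 6`. -/
theorem isSimple_two (hn6 : 6 ≤ n) (S : Sylow 2 (alternatingGroup (Fin n))) :
    (groupFusionSystem (S : Subgroup (alternatingGroup (Fin n)))).IsSimple 2 := by
  classical
  set m := n / 2
  have hm : 3 ≤ m := by omega
  have hn : n ≤ m * 2 + 1 := by omega
  obtain ⟨ι₀⟩ : Nonempty (Fin m × ZMod 2 ↪ Fin n) :=
    Function.Embedding.nonempty_of_card_le (by simp; omega)
  obtain ⟨P, hP⟩ := (S.2.map (alternatingGroup (Fin n)).subtype).exists_le_sylow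
  set a : Fin m := ⟨0, by omega⟩
  set b : Fin m := ⟨1, by omega⟩
  have hab : a ≠ b := fun e => by simp [a, b] at e
  -- choose coordinates inside `P`
  obtain ⟨ι, hbase, hswap⟩ : ∃ ι : Fin m × ZMod 2 ↪ Fin n, fullBase ι ≤ (P : Subgroup (Perm (Fin n))) ∧
      v ι (liftHom (Equiv.swap a b)) ∈ (P : Subgroup (Perm (Fin n))) := by
    have hZ : IsPGroup 2 (Subgroup.zpowers (Equiv.swap a b)) :=
      IsPGroup.of_card (n := 1) (by
        rw [Nat.card_zpowers, pow_one]
        exact orderOf_eq_prime (by rw [pow_two, Equiv.swap_mul_self]) (fun e => hab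
          (by simpa using (congrArg (fun u : Perm (Fin m) => u a) e).symm)))
    obtain ⟨Y, hY⟩ := (isPGroup_base_lift ι₀ hZ).exists_le_sylow
    obtain ⟨g, hg⟩ := MulAction.exists_smul_eq (Perm (Fin n)) Y P
    refine ⟨ι₀.trans g.toEmbedding, ?_, ?_⟩
    · rintro _ ⟨c, rfl⟩
      show v _ (baseHom c) ∈ _
      rw [v_conj, ← hg, Sylow.coe_subgroup_smul]
      exact ⟨_, hY (Subgroup.mem_sup_left ⟨c, rfl⟩), rfl⟩
    · rw [v_conj, ← hg, Sylow.coe_subgroup_smul]
      exact ⟨_, hY (Subgroup.mem_sup_right ⟨_, Subgroup.mem_zpowers _, rfl⟩), rfl⟩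
  have hS : (S : Subgroup (alternatingGroup (Fin n))) =
      (P : Subgroup (Perm (Fin n))).subgroupOf (alternatingGroup (Fin n)) :=
    (S.3 P.2.comap_subtype fun x hx => hP ⟨x, hx, rfl⟩).symm
  have hbS : baseSub ι ≤ (S : Subgroup (alternatingGroup (Fin n))) := fun g hg => by
    obtain ⟨c, hc⟩ := (mem_baseSub ι).1 hg
    rw [hS, Subgroup.mem_subgroupOf, hc]
    exact hbase (mem_fullBase ι c)
  have htau : ∀ i, tau ι i ∈ (P : Subgroup (Perm (Fin n))) := fun i => hbase (tau_mem_fullBase ι i)
  have hdouble : ∀ i j : Fin m, v ι (bs (Pi.single i 1 + Pi.single j 1)) ∈ alternatingGroup (Fin n) := by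
    intro i j
    rw [Perm.mem_alternatingGroup, v_sign, bs_add, map_mul]
    show Perm.sign (cyc (p := 2) i) * Perm.sign (cyc (p := 2) j) = 1
    rw [sign_cyc, sign_cyc]; rfl
  have hS1 : (S : Subgroup (alternatingGroup (Fin n))) ≠ ⊥ := fun e => by
    have h := hbS ((mem_baseSub ι).2 ⟨_, rfl⟩ : (⟨_, hdouble a b⟩ : alternatingGroup (Fin n)) ∈ baseSub ι)
    rw [e, Subgroup.mem_bot, Subtype.ext_iff] at h
    have := congrFun (bs_inj (v_injective ι (h.trans (by rw [bs_zero, map_one]; rfl :
      ((1 : alternatingGroup (Fin n)) : Perm (Fin n)) = v ι (bs 0))))) a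
    simp [hab] at this
  refine isSimple_of_autS S hS1 (fun T hT => ?_) ?_
  · refine or_iff_not_imp_left.mpr fun hT1 => eq_of_base_le ι S hn (fun k _ => ⟨cyc a, sign_cyc a, bs_comm _ _⟩) hT ?_
    obtain ⟨z, hzT, hzB, hz1⟩ := exists_central_in_base ι S hbS (centralizer_baseSub_two ι hn hm) hT hT1
    obtain ⟨c, hc⟩ := (mem_baseSub ι).1 hzB
    -- conjugates lying in `S`
    have hclose : ∀ (y : alternatingGroup (Fin n)), y ∈ T → ∀ (q w : Perm (Fin m × ZMod 2)) (u : Perm (Fin m × ZMod 2)),
        (y : Perm (Fin n)) = v ι w → Perm.sign q = 1 → q * w * q⁻¹ = u → v ι u ∈ (P : Subgroup (Perm (Fin n))) →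
        ∃ y' ∈ T, (y' : Perm (Fin n)) = v ι u := by
      intro y hy q w u hyw hq hqu huP
      have hqA : v ι q ∈ alternatingGroup (Fin n) := by rw [Perm.mem_alternatingGroup, v_sign, hq]
      have he : ((⟨v ι q, hqA⟩ * y * ⟨v ι q, hqA⟩⁻¹ : alternatingGroup (Fin n)) : Perm (Fin n)) = v ι u := by
        simp only [Subgroup.coe_mul, Subgroup.coe_inv, hyw, ← hqu, map_mul, map_inv]
      exact ⟨_, closed_conj hT hy (by rw [hS, Subgroup.mem_subgroupOf, he]; exact huP), he⟩
    -- a product of two transpositions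
    obtain ⟨i₀, j₀, hij, d, hdT, hd⟩ : ∃ i j : Fin m, i ≠ j ∧ ∃ d ∈ T,
        (d : Perm (Fin n)) = v ι (bs (Pi.single i 1 + Pi.single j 1)) := by
      obtain ⟨i, hi⟩ : ∃ i, c i = 1 := by
        by_contra hno
        push Not at hno
        refine hz1 (Subtype.ext ?_)
        rw [hc, show c = 0 from funext fun i => (zmod_two_cases (c i)).resolve_right (hno i), bs_zero, map_one]
        rfl
      by_cases hzero : ∃ j, c j = 0
      · obtain ⟨j, hj⟩ := hzero
        have hne : i ≠ j := fun e => by rw [e, hj] at hi; exact zero_ne_one hi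
        refine ⟨i, j, hne, ?_⟩
        obtain ⟨y', hy', hye⟩ := hclose z hzT (liftHom (Equiv.swap i j)) _ _ hc (sign_lift_two _)
          (lift_conj_bs _ c) (hbase (mem_fullBase ι _))
        refine ⟨z * y', mul_mem hzT hy', ?_⟩
        rw [Subgroup.coe_mul, hc, hye, ← map_mul, ← bs_add]
        congr 2
        funext l
        simp only [Pi.add_apply, Function.comp_apply, Equiv.symm_swap]
        by_cases hl1 : l = i
        · subst hl1; simp [hi, hj, hne]
        by_cases hl2 : l = j
        · subst hl2; simp [hi, hj, hne.symm]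
        rw [Equiv.swap_apply_of_ne_of_ne hl1 hl2]
        simp [hl1, hl2, CharTwo.add_self_eq_zero]
      push Not at hzero
      have hc1 : c = 1 := funext fun l => (zmod_two_cases (c l)).resolve_left (hzero l)
      refine ⟨a, b, hab, ?_⟩
      set e2 : Fin m := ⟨2, by omega⟩
      have ha2 : a ≠ e2 := fun e => by simp [a, e2] at e
      have hb2 : b ≠ e2 := fun e => by simp [b, e2] at e
      have hsgn : ∀ x y : Fin m × ZMod 2, x ≠ y → Perm.sign (Equiv.swap x y * cyc e2) = 1 := fun x y hxy => by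
        rw [map_mul, Perm.sign_swap hxy, sign_cyc]; rfl
      have hidx : ∀ q : Fin m × ZMod 2, q = (a, 0) ∨ q = (a, 1) ∨ q = (b, 0) ∨ q = (b, 1) ∨ (q.1 ≠ a ∧ q.1 ≠ b) := by
        rintro ⟨l, x⟩
        by_cases h1 : l = a
        · subst h1; rcases zmod_two_cases x with rfl | rfl <;> simp
        by_cases h2 : l = b
        · subst h2; rcases zmod_two_cases x with rfl | rfl <;> simp
        exact Or.inr (Or.inr (Or.inr (Or.inr ⟨h1, h2⟩)))
      have hone : (1 : ZMod 2) + 1 = 0 := by decide
      -- conjugate by elements fixing the other blocks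
      have hmain : (Equiv.swap ((a, 1) : Fin m × ZMod 2) (b, 0) * cyc e2) * bs (1 : Fin m → ZMod 2) *
          (Equiv.swap ((a, 1) : Fin m × ZMod 2) (b, 0) * cyc e2)⁻¹ =
          liftHom (Equiv.swap a b) * bs (1 - Pi.single a 1 - Pi.single b 1) := by
        rw [show (Equiv.swap ((a, 1) : Fin m × ZMod 2) (b, 0) * cyc e2) * bs (1 : Fin m → ZMod 2) *
          (Equiv.swap ((a, 1) : Fin m × ZMod 2) (b, 0) * cyc e2)⁻¹ =
          Equiv.swap ((a, 1) : Fin m × ZMod 2) (b, 0) * (cyc e2 * bs (1 : Fin m → ZMod 2) * (cyc e2)⁻¹) *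
            (Equiv.swap ((a, 1) : Fin m × ZMod 2) (b, 0))⁻¹ by group,
          show cyc e2 * bs (1 : Fin m → ZMod 2) * (cyc e2)⁻¹ = bs 1 by
            rw [cyc, (bs_comm _ _).eq, mul_inv_cancel_right], Equiv.swap_inv]
        refine Equiv.ext fun q => ?_
        rcases hidx q with rfl | rfl | rfl | rfl | ⟨h1, h2⟩ <;>
          simp only [Perm.mul_apply]
        all_goals first
          | (simp [bs_apply, liftHom_apply, Equiv.swap_apply_def, hab, hab.symm, hone]; done)
          | (obtain ⟨l, x⟩ := q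
             simp only at h1 h2
             simp [bs_apply, liftHom_apply, Equiv.swap_apply_def, h1, h2, hab, hab.symm, hone])
      obtain ⟨z', hz', hz'e⟩ := hclose z hzT (Equiv.swap ((a, 1) : Fin m × ZMod 2) (b, 0) * cyc e2)
        (bs (1 : Fin m → ZMod 2)) (liftHom (Equiv.swap a b) * bs (1 - Pi.single a 1 - Pi.single b 1))
        (by rw [hc, hc1]) (hsgn (a, 1) (b, 0) (fun e => hab (congrArg Prod.fst e)))
        hmain (by rw [map_mul]; exact mul_mem hswap (hbase (mem_fullBase ι _)))
      have hmain2 : (Equiv.swap ((a, 1) : Fin m × ZMod 2) (b, 1) * cyc e2) *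
          (liftHom (Equiv.swap a b) * bs (Pi.single a 1 + Pi.single b 1)) *
          (Equiv.swap ((a, 1) : Fin m × ZMod 2) (b, 1) * cyc e2)⁻¹ =
          bs (Pi.single a 1 + Pi.single b 1) := by
        rw [show (Equiv.swap ((a, 1) : Fin m × ZMod 2) (b, 1) * cyc e2) *
          (liftHom (Equiv.swap a b) * bs (Pi.single a 1 + Pi.single b 1)) *
          (Equiv.swap ((a, 1) : Fin m × ZMod 2) (b, 1) * cyc e2)⁻¹ =
          Equiv.swap ((a, 1) : Fin m × ZMod 2) (b, 1) * (cyc e2 *
            (liftHom (Equiv.swap a b) * bs (Pi.single a 1 + Pi.single b 1)) * (cyc e2)⁻¹) *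
            (Equiv.swap ((a, 1) : Fin m × ZMod 2) (b, 1))⁻¹ by group,
          show cyc e2 * (liftHom (Equiv.swap a b) * bs (Pi.single a 1 + Pi.single b 1)) * (cyc e2)⁻¹ =
            liftHom (Equiv.swap a b) * bs (Pi.single a 1 + Pi.single b 1) by
            have h1 : Commute (cyc e2) (liftHom (p := 2) (Equiv.swap a b)) := by
              show _ * _ = _ * _
              refine (mul_inv_eq_iff_eq_mul.1 ?_).symm
              rw [cyc, lift_conj_bs]
              congr 1
              funext l
              simp only [Function.comp_apply, Equiv.symm_swap]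
              by_cases hl1 : l = a
              · subst hl1; simp [ha2, hb2]
              by_cases hl2 : l = b
              · subst hl2; simp [ha2, hb2]
              rw [Equiv.swap_apply_of_ne_of_ne hl1 hl2]
            rw [(h1.mul_right (bs_comm _ _)).eq, mul_inv_cancel_right], Equiv.swap_inv]
        refine Equiv.ext fun q => ?_
        rcases hidx q with rfl | rfl | rfl | rfl | ⟨h1, h2⟩ <;>
          simp only [Perm.mul_apply]
        all_goals first
          | (simp [bs_apply, liftHom_apply, Equiv.swap_apply_def, hab, hab.symm, hone]; done)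
          | (obtain ⟨l, x⟩ := q
             simp only at h1 h2
             simp [bs_apply, liftHom_apply, Equiv.swap_apply_def, h1, h2, hab, hab.symm, hone])
      have hprod : ((z' * z : alternatingGroup (Fin n)) : Perm (Fin n)) =
          v ι (liftHom (Equiv.swap a b) * bs (Pi.single a 1 + Pi.single b 1)) := by
        rw [Subgroup.coe_mul, hz'e, hc, ← map_mul, mul_assoc, ← bs_add, hc1]
        congr 3
        funext l
        simp only [Pi.sub_apply, Pi.add_apply, Pi.one_apply, CharTwo.sub_eq_add]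
        generalize (Pi.single a (1 : ZMod 2) : Fin m → ZMod 2) l = u
        generalize (Pi.single b (1 : ZMod 2) : Fin m → ZMod 2) l = u'
        revert u u'; decide
      exact hclose _ (mul_mem hz' hzT) (Equiv.swap ((a, 1) : Fin m × ZMod 2) (b, 1) * cyc e2)
        (liftHom (Equiv.swap a b) * bs (Pi.single a 1 + Pi.single b 1)) _ hprod
        (hsgn (a, 1) (b, 1) (fun e => hab (congrArg Prod.fst e))) hmain2
        (hbase (mem_fullBase ι _))
    -- all products of two transpositions
    have hall : ∀ i j : Fin m, i ≠ j → ∃ y ∈ T, (y : Perm (Fin n)) = v ι (bs (Pi.single i 1 + Pi.single j 1)) := by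
      intro i j hne
      set σ := Equiv.swap (Equiv.swap i₀ i j₀) j * Equiv.swap i₀ i
      have hσi : σ i₀ = i := by
        have h1 : i ≠ Equiv.swap i₀ i j₀ := fun e => by
          have h' := congrArg (Equiv.swap i₀ i) e
          rw [Equiv.swap_apply_right, Equiv.swap_apply_self] at h'
          exact hij h'
        simp [σ, Equiv.swap_apply_of_ne_of_ne h1 hne]
      have hσj : σ j₀ = j := by simp [σ]
      obtain ⟨y, hy, hye⟩ := hclose d hdT (liftHom σ) _ _ hd (sign_lift_two σ) (lift_conj_bs σ _)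
        (hbase (mem_fullBase ι _))
      refine ⟨y, hy, hye.trans (congrArg (fun c => v ι (bs c)) (funext fun l => ?_))⟩
      simp only [Function.comp_apply, Pi.add_apply, Pi.single_apply, Equiv.symm_apply_eq, hσi, hσj]
    intro g hg
    obtain ⟨w, hw⟩ := (mem_baseSub ι).1 hg
    clear hg
    induction hk : (Finset.univ.filter fun l => w l ≠ 0).card using Nat.strong_induction_on generalizing g w with
    | _ k ih =>
      by_cases hw0 : ∀ l, w l = 0
      · rw [show g = 1 from Subtype.ext (by
          rw [hw, show w = 0 from funext hw0, bs_zero, map_one]; rfl)]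
        exact one_mem T
      push Not at hw0
      obtain ⟨i, hi⟩ := hw0
      obtain ⟨j, hji, hj⟩ : ∃ j, j ≠ i ∧ w j ≠ 0 := by
        by_contra hno
        push Not at hno
        have he : w = Pi.single i 1 := funext fun l => by
          by_cases hl : l = i
          · subst hl; rw [Pi.single_eq_same]; exact (zmod_two_cases _).resolve_left hi
          · rw [Pi.single_eq_of_ne hl]; exact hno l hl
        have := Perm.mem_alternatingGroup.1 g.2
        rw [hw, he, v_sign] at this
        exact absurd (this.symm.trans (sign_cyc i)) (by decide)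
      obtain ⟨y, hy, hye⟩ := hall i j hji.symm
      have hgy : ((g * y : alternatingGroup (Fin n)) : Perm (Fin n)) = v ι (bs (w + (Pi.single i 1 + Pi.single j 1))) := by
        rw [Subgroup.coe_mul, hw, hye, bs_add w, map_mul]
      have hlt : (Finset.univ.filter fun l => (w + ((Pi.single i 1 + Pi.single j 1) : Fin m → ZMod 2)) l ≠ 0).card < k := by
        rw [← hk]
        refine Finset.card_lt_card (Finset.ssubset_iff_of_subset ?_ |>.2 ⟨i, ?_, ?_⟩)
        · intro l hl
          simp only [Finset.mem_filter, Finset.mem_univ, true_and] at hl ⊢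
          intro hl0
          apply hl
          have h1 : l ≠ i := fun e => hi (e ▸ hl0)
          have h2 : l ≠ j := fun e => hj (e ▸ hl0)
          simp [hl0, h1, h2]
        · simp [hi]
        · simp [(zmod_two_cases (w i)).resolve_left hi, hji.symm]; decide
      have h1 := ih _ hlt _ hgy rfl
      exact (T.mul_mem_cancel_right hy).1 h1
  · intro E _ _ g hg
    -- the normaliser of `S` is `S`
    have hgS : g ∈ (S : Subgroup (alternatingGroup (Fin n))) := by
      have hconj : ∀ i, (g : Perm (Fin n)) * tau ι i * (g : Perm (Fin n))⁻¹ ∈ (P : Subgroup (Perm (Fin n))) := by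
        intro i
        set s := (g : Perm (Fin n)) * tau ι i * (g : Perm (Fin n))⁻¹ with hs
        obtain ⟨x, y, hxy, hsw⟩ : s.IsSwap := isSwap_conj (isSwap_tau ι i)
        obtain ⟨j, j', hj, hj', hjj⟩ : ∃ j j', j ≠ i ∧ j' ≠ i ∧ j ≠ j' := by
          obtain ⟨j, hj, -⟩ := Fin.exists_ne_and_ne_of_two_lt i i (by omega)
          obtain ⟨j', hj', hjj'⟩ := Fin.exists_ne_and_ne_of_two_lt i j (by omega)
          exact ⟨j, j', hj, hj', hjj'.symm⟩
        -- the partners
        have hprop : ∀ l, l ≠ i → s * ((g : Perm (Fin n)) * tau ι l * (g : Perm (Fin n))⁻¹) ∈ (P : Subgroup (Perm (Fin n))) ∧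
            Perm.Disjoint s ((g : Perm (Fin n)) * tau ι l * (g : Perm (Fin n))⁻¹) := by
          intro l hl
          refine ⟨?_, Perm.Disjoint.conj ?_ _⟩
          · rw [hs, _root_.conj_mul, tau, tau, ← map_mul, cyc, cyc, ← bs_add]
            have hmem : (⟨_, hdouble i l⟩ : alternatingGroup (Fin n)) ∈ (S : Subgroup (alternatingGroup (Fin n))) :=
              hbS ((mem_baseSub ι).2 ⟨_, rfl⟩)
            have h := conj_mem_of_mem_normalizer hg hmem
            rw [hS, Subgroup.mem_subgroupOf] at h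
            exact h
          · intro q
            by_cases hq : q ∈ Set.range ι
            · obtain ⟨⟨l', y⟩, rfl⟩ := hq
              by_cases h : l' = i
              · right; subst h; rw [tau, v_apply, cyc_apply_ne hl.symm]
              · left; rw [tau, v_apply, cyc_apply_ne h]
            · left; rw [tau, v_apply_out _ _ hq]
        by_cases htwo : ∃ l, s = tau ι l
        · obtain ⟨l, hl⟩ := htwo
          rw [hl]; exact htau l
        exfalso
        -- a crossing transposition has only one partner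
        have huniq : ∀ u : Perm (Fin n), u.IsSwap → s * u ∈ (P : Subgroup (Perm (Fin n))) → Perm.Disjoint s u →
            ∀ a' b', x = ι a' → y = ι b' → u = Equiv.swap (ι (a'.1, a'.2 + 1)) (ι (b'.1, b'.2 + 1)) := by
          rintro u hu hsu hdis ⟨i₁, a₁⟩ ⟨j₁, b₁⟩ rfl rfl
          have hne : i₁ ≠ j₁ := fun e => by
            subst e
            refine htwo ⟨i₁, hsw.trans ?_⟩
            have : b₁ = a₁ + 1 := by
              rcases zmod_two_cases a₁ with rfl | rfl <;> rcases zmod_two_cases b₁ with rfl | rfl <;>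
                first | decide | exact absurd rfl hxy
            rw [tau_eq_swap ι i₁ a₁, this]
          obtain ⟨σ, c', hd⟩ := exists_mono_of_normalize ι hn P.2 htau (g := s * u) fun l =>
            mul_mem (mul_mem hsu (htau l)) (inv_mem hsu)
          have hux : u (ι (i₁, a₁)) = ι (i₁, a₁) := (hdis _).resolve_left (by
            rw [hsw, Equiv.swap_apply_left]; exact Ne.symm hxy)
          have hdx : (s * u) (ι (i₁, a₁)) = ι (j₁, b₁) := by
            rw [Perm.mul_apply, hux, hsw, Equiv.swap_apply_left]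
          rw [hd, v_apply, Perm.mul_apply, bs_apply, liftHom_apply] at hdx
          obtain ⟨hσ, hb₁⟩ := Prod.mk.injEq .. ▸ ι.injective hdx
          have hdx' : (s * u) (ι (i₁, a₁ + 1)) = ι (j₁, b₁ + 1) := by
            rw [hd, v_apply, Perm.mul_apply, bs_apply, liftHom_apply, hσ, ← hb₁]
            congr 2; ring
          rw [Perm.mul_apply] at hdx'
          have hu' : u (ι (i₁, a₁ + 1)) = ι (j₁, b₁ + 1) := by
            have h1 := congrArg s hdx'
            have hss : ∀ q, s (s q) = q := fun q => by rw [hsw, Equiv.swap_apply_self]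
            rw [hss] at h1
            rw [h1, hsw, Equiv.swap_apply_of_ne_of_ne]
            · exact fun e => hne.symm (congrArg Prod.fst (ι.injective e))
            · exact fun e => by simpa using congrArg Prod.snd (ι.injective e)
          exact swap_eq_of_apply hu hu' fun e => hne.symm (congrArg Prod.fst (ι.injective e))
        have hxr : x ∈ Set.range ι ∧ y ∈ Set.range ι := by
          have key : ∀ x y : Fin n, x ≠ y → s = Equiv.swap x y → x ∈ Set.range ι := by
            intro x y hxy hsw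
            by_contra hx
            obtain ⟨h1, h2⟩ := hprop j hj
            obtain ⟨σ, c', hd⟩ := exists_mono_of_normalize ι hn P.2 htau
              (g := s * ((g : Perm (Fin n)) * tau ι j * (g : Perm (Fin n))⁻¹)) fun l =>
              mul_mem (mul_mem h1 (htau l)) (inv_mem h1)
            have hux := (h2 x).resolve_left (by rw [hsw, Equiv.swap_apply_left]; exact Ne.symm hxy)
            have := congrArg (fun u : Perm (Fin n) => u x) hd
            simp only [Perm.mul_apply] at this hux
            rw [hux, v_apply_out _ _ hx, hsw, Equiv.swap_apply_left] at this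
            exact hxy this.symm
          exact ⟨key x y hxy hsw, key y x hxy.symm (hsw.trans (Equiv.swap_comm x y))⟩
        obtain ⟨⟨a', ha'⟩, ⟨b', hb'⟩⟩ := hxr
        have e1 := huniq _ (isSwap_conj (isSwap_tau ι j)) (hprop j hj).1 (hprop j hj).2 a' b' ha'.symm hb'.symm
        have e2 := huniq _ (isSwap_conj (isSwap_tau ι j')) (hprop j' hj').1 (hprop j' hj').2 a' b' ha'.symm hb'.symm
        have e3 := v_injective ι (mul_left_cancel (mul_right_cancel (e1.trans e2.symm)))
        have := congrFun (bs_inj e3) j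
        rw [Pi.single_eq_same, Pi.single_eq_of_ne hjj] at this
        exact one_ne_zero this
      rw [hS, Subgroup.mem_subgroupOf]
      refine normalizer_sylow_perm n P (mem_normalizer_of_maps_finite fun q hq => ?_)
      rcases Int.units_eq_one_or (Perm.sign q) with hs | hs
      · have h := conj_mem_of_mem_normalizer hg (show (⟨q, Perm.mem_alternatingGroup.2 hs⟩ : alternatingGroup (Fin n)) ∈
          (S : Subgroup (alternatingGroup (Fin n))) by rw [hS, Subgroup.mem_subgroupOf]; exact hq)
        rw [hS, Subgroup.mem_subgroupOf] at h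
        exact h
      · have h := conj_mem_of_mem_normalizer hg (show (⟨q * tau ι a, Perm.mem_alternatingGroup.2 (by
            rw [map_mul, hs, sign_tau]; rfl)⟩ : alternatingGroup (Fin n)) ∈
          (S : Subgroup (alternatingGroup (Fin n))) by rw [hS, Subgroup.mem_subgroupOf]; exact mul_mem hq (htau a))
        rw [hS, Subgroup.mem_subgroupOf] at h
        have h' := mul_mem h (inv_mem (hconj a))
        have e : (g : Perm (Fin n)) * (q * tau ι a) * (g : Perm (Fin n))⁻¹ *
            ((g : Perm (Fin n)) * tau ι a * (g : Perm (Fin n))⁻¹)⁻¹ = (g : Perm (Fin n)) * q * (g : Perm (Fin n))⁻¹ := by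
          group
        exact e ▸ h'
    exact isMap_conj le_rfl hgS

end Cfsg.Lib.Fusion.AltSimple
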